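import Groth.Agent.Lib.Helper28.Torsor.BalProdQuot
import Mathlib.AlgebraicGeometry.Morphisms.ClosedImmersion

/-!
# Closed invariant subschemes of a balanced product are balanced products (S19681)
-/

set_option autoImplicit false
universe u

open CategoryTheory MonoidalCategory CartesianMonoidalCategory MonObj GrpObj AlgebraicGeometry
open CategoryTheory.Limits

namespace Groth.Agent.Lib.Helper28.BalProdClosed

open Groth.Agent.Lib.Helper28.TorsorLoc Groth.Agent.Lib.Helper28.BalProdQuot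

lemma isPullback_of_existsUnique {C : Type*} [Category C] {W X Y Z : C} {fst : W ⟶ X}
    {snd : W ⟶ Y} {f : X ⟶ Z} {g : Y ⟶ Z} (w : fst ≫ f = snd ≫ g)
    (h : ∀ {T : C} (a : T ⟶ X) (b : T ⟶ Y), a ≫ f = b ≫ g →
      ∃! p : T ⟶ W, p ≫ fst = a ∧ p ≫ snd = b) :
    IsPullback fst snd f g :=
  ⟨⟨w⟩, ⟨PullbackCone.IsLimit.mk w (fun s => (h s.fst s.snd s.condition).choose)
    (fun s => (h s.fst s.snd s.condition).choose_spec.1.1)
    (fun s => (h s.fst s.snd s.condition).choose_spec.1.2)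
    (fun s m h1 h2 => (h s.fst s.snd s.condition).choose_spec.2 m ⟨h1, h2⟩)⟩⟩

variable {S : Scheme.{u}}

/-- an action on an object with two jointly monic equivariant projections -/
noncomputable def actionOfJointlyMono {H X A₁ A₂ : Over S} [GrpObj H] (p₁ : X ⟶ A₁) (p₂ : X ⟶ A₂)
    (hmono : ∀ {T : Over S} (u v : T ⟶ X), u ≫ p₁ = v ≫ p₁ → u ≫ p₂ = v ≫ p₂ → u = v)
    (a₁ : AlgGrp.Action H A₁) (a₂ : AlgGrp.Action H A₂) (act : H ⊗ X ⟶ X)
    (h₁ : act ≫ p₁ = (H ◁ p₁) ≫ a₁.act) (h₂ : act ≫ p₂ = (H ◁ p₂) ≫ a₂.act) :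
    AlgGrp.Action H X where
  act := act
  one_act := by
    apply hmono
    · rw [Category.assoc, h₁, ← whisker_exchange_assoc, a₁.one_act, leftUnitor_naturality]
    · rw [Category.assoc, h₂, ← whisker_exchange_assoc, a₂.one_act, leftUnitor_naturality]
  mul_act := by
    apply hmono
    · simp only [Category.assoc, h₁]
      rw [← whisker_exchange_assoc, a₁.mul_act, ← MonoidalCategory.whiskerLeft_comp_assoc, h₁,
        MonoidalCategory.whiskerLeft_comp_assoc, associator_naturality_right_assoc]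
    · simp only [Category.assoc, h₂]
      rw [← whisker_exchange_assoc, a₂.mul_act, ← MonoidalCategory.whiskerLeft_comp_assoc, h₂,
        MonoidalCategory.whiskerLeft_comp_assoc, associator_naturality_right_assoc]

variable {G H Z Y Y' : Over S} [GrpObj G] [GrpObj H] (i : H ⟶ G) [IsMonHom i]
  (aZ : AlgGrp.Action H Z) (aY : AlgGrp.Action G Y) (j : G ⊗ Z ⟶ Y)
  (c : Y' ⟶ Y) (aY' : AlgGrp.Action G Y')

/-- `z ↦ j(e, z)` -/
noncomputable def ιe : Z ⟶ Y := lift (toUnit Z ≫ η[G]) (𝟙 Z) ≫ j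

lemma comp_ιe {T : Over S} (z : T ⟶ Z) : z ≫ ιe j = lift (1 : T ⟶ G) z ≫ j := by
  unfold ιe
  have : z ≫ lift (toUnit Z ≫ η[G]) (𝟙 Z) = lift (1 : T ⟶ G) z := by
    rw [comp_lift, Category.comp_id, ← Category.assoc, comp_toUnit, Hom.one_def]
  rw [reassoc_of% this]

/-- the closed subscheme `Z' = Z ×_Y Y'` of `Z` -/
noncomputable def Z' : Over S := Over.mk (pullback.fst (ιe j).left c.left ≫ Z.hom)

noncomputable def c' : Z' j c ⟶ Z := Over.homMk (pullback.fst (ιe j).left c.left) rfl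

noncomputable def d' : Z' j c ⟶ Y' := Over.homMk (pullback.snd (ιe j).left c.left) (by
  have h1 := Over.w c
  have h2 := Over.w (ιe j)
  show pullback.snd (ιe j).left c.left ≫ Y'.hom = pullback.fst (ιe j).left c.left ≫ Z.hom
  rw [← h1, ← pullback.condition_assoc, h2])

lemma c'_ιe : c' j c ≫ ιe j = d' j c ≫ c := by
  ext
  exact pullback.condition

noncomputable def liftZ' {T : Over S} (z : T ⟶ Z) (y : T ⟶ Y') (h : z ≫ ιe j = y ≫ c) :
    T ⟶ Z' j c :=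
  Over.homMk (pullback.lift z.left y.left (by rw [← Over.comp_left, ← Over.comp_left, h])) (by
    show pullback.lift z.left y.left _ ≫ pullback.fst (ιe j).left c.left ≫ Z.hom = T.hom
    rw [pullback.lift_fst_assoc, Over.w z])

lemma liftZ'_c' {T : Over S} (z : T ⟶ Z) (y : T ⟶ Y') (h : z ≫ ιe j = y ≫ c) :
    liftZ' j c z y h ≫ c' j c = z := by
  ext
  exact pullback.lift_fst _ _ _

lemma liftZ'_d' {T : Over S} (z : T ⟶ Z) (y : T ⟶ Y') (h : z ≫ ιe j = y ≫ c) :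
    liftZ' j c z y h ≫ d' j c = y := by
  ext
  exact pullback.lift_snd _ _ _

lemma Z'_hom_ext {T : Over S} (u v : T ⟶ Z' j c) (h1 : u ≫ c' j c = v ≫ c' j c)
    (h2 : u ≫ d' j c = v ≫ d' j c) : u = v := by
  ext
  apply pullback.hom_ext
  · exact congrArg (fun m => m.left) h1
  · exact congrArg (fun m => m.left) h2

section points

variable (hY : ChGrp.IsBalProd Scheme.fppfPrecoverage i aZ aY j)
  (hc : AlgGrp.Action.IsEquivariant aY' aY c)

include hc in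
lemma pt_c {T : Over S} (g : T ⟶ G) (y : T ⟶ Y') : pt aY' g y ≫ c = pt aY g (y ≫ c) := by
  unfold pt
  unfold AlgGrp.Action.IsEquivariant at hc
  rw [Category.assoc, hc, lift_whiskerLeft_assoc]

include hY in
lemma E1' {T : Over S} (g g' : T ⟶ G) (z : T ⟶ Z) :
    lift (g * g') z ≫ j = pt aY g (lift g' z ≫ j) := E1 i aZ aY j hY g g' z

include hY hc in
/-- compatibility needed to define the `H`-action on `Z'` -/
lemma actZ'_cond :
    ((H ◁ c' j c) ≫ aZ.act) ≫ ιe j =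
      ((H ◁ d' j c) ≫ (aY'.restrict i).act) ≫ c := by
  apply AlgGrp.Action.hom_ext_lift₂
  intro T h w
  rw [Category.assoc, Category.assoc, lift_whiskerLeft_assoc, lift_whiskerLeft_assoc,
    AlgGrp.Action.lift_restrict_act_assoc]
  have e1 : lift h (w ≫ c' j c) ≫ aZ.act ≫ ιe j
      = lift (h ≫ i) (w ≫ c' j c) ≫ j := by
    rw [← Category.assoc, comp_ιe]
    have h2 := E2 i aZ aY j hY h (h ≫ i) (w ≫ c' j c)
    rw [mul_inv_cancel] at h2
    exact h2
  have e2 : lift (h ≫ i) (w ≫ d' j c) ≫ aY'.act ≫ c = lift (h ≫ i) (w ≫ c' j c) ≫ j := by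
    have := pt_c aY c aY' hc (h ≫ i) (w ≫ d' j c)
    unfold pt at this
    rw [Category.assoc] at this
    have e3 : (w ≫ d' j c) ≫ c = lift (1 : T ⟶ G) (w ≫ c' j c) ≫ j := by
      rw [Category.assoc, ← c'_ιe, ← Category.assoc, comp_ιe]
    rw [this, e3]
    have h4 := E1' i aZ aY j hY (h ≫ i) 1 (w ≫ c' j c)
    rw [_root_.mul_one] at h4
    exact h4.symm
  rw [e1, e2]

noncomputable def actZ' : H ⊗ Z' j c ⟶ Z' j c :=
  liftZ' j c ((H ◁ c' j c) ≫ aZ.act) ((H ◁ d' j c) ≫ (aY'.restrict i).act)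
    (actZ'_cond i aZ aY j c aY' hY hc)

lemma actZ'_c' : actZ' i aZ aY j c aY' hY hc ≫ c' j c = (H ◁ c' j c) ≫ aZ.act :=
  liftZ'_c' j c _ _ _

lemma actZ'_d' : actZ' i aZ aY j c aY' hY hc ≫ d' j c = (H ◁ d' j c) ≫ (aY'.restrict i).act :=
  liftZ'_d' j c _ _ _

noncomputable def aZ' : AlgGrp.Action H (Z' j c) :=
  actionOfJointlyMono (c' j c) (d' j c) (fun u v h1 h2 => Z'_hom_ext j c u v h1 h2) aZ
    (aY'.restrict i) (actZ' i aZ aY j c aY' hY hc) (actZ'_c' i aZ aY j c aY' hY hc)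
    (actZ'_d' i aZ aY j c aY' hY hc)

lemma aZ'_act : (aZ' i aZ aY j c aY' hY hc).act = actZ' i aZ aY j c aY' hY hc := rfl

lemma pt_aZ'_c' {T : Over S} (h : T ⟶ H) (w : T ⟶ Z' j c) :
    pt (aZ' i aZ aY j c aY' hY hc) h w ≫ c' j c = pt aZ h (w ≫ c' j c) := by
  unfold pt
  rw [Category.assoc, aZ'_act, actZ'_c', lift_whiskerLeft_assoc]

lemma pt_aZ'_d' {T : Over S} (h : T ⟶ H) (w : T ⟶ Z' j c) :
    pt (aZ' i aZ aY j c aY' hY hc) h w ≫ d' j c = pt aY' (h ≫ i) (w ≫ d' j c) := by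
  unfold pt
  rw [Category.assoc, aZ'_act, actZ'_d', lift_whiskerLeft_assoc,
    AlgGrp.Action.lift_restrict_act]

/-- `(g, w) ↦ g · d'(w)` -/
noncomputable def j' : G ⊗ Z' j c ⟶ Y' := (G ◁ d' j c) ≫ aY'.act

lemma lift_j' {T : Over S} (g : T ⟶ G) (w : T ⟶ Z' j c) :
    lift g w ≫ j' j c aY' = pt aY' g (w ≫ d' j c) := by
  unfold j' pt
  rw [lift_whiskerLeft_assoc]

include hY hc in
lemma j'_c : j' j c aY' ≫ c = (G ◁ c' j c) ≫ j := by
  apply AlgGrp.Action.hom_ext_lift₂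
  intro T g w
  rw [← Category.assoc, lift_j', pt_c aY c aY' hc, lift_whiskerLeft_assoc]
  have e3 : (w ≫ d' j c) ≫ c = lift (1 : T ⟶ G) (w ≫ c' j c) ≫ j := by
    rw [Category.assoc, ← c'_ιe, ← Category.assoc, comp_ιe]
  rw [e3]
  have h4 := E1' i aZ aY j hY g 1 (w ≫ c' j c)
  rw [_root_.mul_one] at h4
  exact h4.symm

lemma equivariant_j' :
    AlgGrp.Action.IsEquivariant
      ((NonAbH1.trivialAction G).prod (AlgGrp.Action.trivial G (Z' j c))) aY' (j' j c aY') := by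
  unfold AlgGrp.Action.IsEquivariant
  apply AlgGrp.Action.hom_ext_lift₂
  intro T g b
  have hb : b = lift (b ≫ fst G (Z' j c)) (b ≫ snd G (Z' j c)) := by
    rw [← comp_lift, lift_fst_snd, Category.comp_id]
  rw [hb, AlgGrp.Action.lift_prod_act_assoc, AlgGrp.Action.lift_trivial_act,
    lift_whiskerLeft_assoc, lift_j', lift_j']
  have : lift g (b ≫ fst G (Z' j c)) ≫ (NonAbH1.trivialAction G).act
      = g * (b ≫ fst G (Z' j c)) := by
    rw [Hom.mul_def]; rfl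
  rw [this, mul_pt]
  rfl

include hY hc in
lemma isPullback_j' :
    IsPullback (ChGrp.twist i (aZ' i aZ aY j c aY' hY hc)).act (snd H (G ⊗ Z' j c))
      (j' j c aY') (j' j c aY') := by
  have sq := hY.2.1
  have hlj : ∀ {T : Over S} (g : T ⟶ G) (w : T ⟶ Z' j c),
      lift g w ≫ j' j c aY' = pt aY' g (w ≫ d' j c) := fun g w => lift_j' j c aY' g w
  have hjc : j' j c aY' ≫ c = (G ◁ c' j c) ≫ j := j'_c i aZ aY j c aY' hY hc
  have hd : ∀ {T : Over S} (h : T ⟶ H) (w : T ⟶ Z' j c),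
      pt (aZ' i aZ aY j c aY' hY hc) h w ≫ d' j c = pt aY' (h ≫ i) (w ≫ d' j c) :=
    fun h w => pt_aZ'_d' i aZ aY j c aY' hY hc h w
  have hc' : ∀ {T : Over S} (h : T ⟶ H) (w : T ⟶ Z' j c),
      pt (aZ' i aZ aY j c aY' hY hc) h w ≫ c' j c = pt aZ h (w ≫ c' j c) :=
    fun h w => pt_aZ'_c' i aZ aY j c aY' hY hc h w
  have htw : ∀ {T : Over S} (h : T ⟶ H) (g : T ⟶ G) (w : T ⟶ Z' j c),
      lift h (lift g w) ≫ (ChGrp.twist i (aZ' i aZ aY j c aY' hY hc)).act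
        = lift (g * (h ≫ i)⁻¹) (pt (aZ' i aZ aY j c aY' hY hc) h w) :=
    fun h g w => ChGrp.lift_twist_act i (aZ' i aZ aY j c aY' hY hc) h g w
  have dec : ∀ {T : Over S} (γ : T ⟶ G ⊗ Z' j c),
      γ = lift (γ ≫ fst _ _) (γ ≫ snd _ _) := by
    intro T γ; rw [← comp_lift, lift_fst_snd, Category.comp_id]
  have w : (ChGrp.twist i (aZ' i aZ aY j c aY' hY hc)).act ≫ j' j c aY'
      = snd H (G ⊗ Z' j c) ≫ j' j c aY' := by
    apply AlgGrp.Action.hom_ext_lift₂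
    intro T h b
    obtain ⟨g, w, rfl⟩ : ∃ g w, b = lift g w := ⟨_, _, dec b⟩
    calc lift h (lift g w) ≫ (ChGrp.twist i (aZ' i aZ aY j c aY' hY hc)).act ≫ j' j c aY'
        = (lift h (lift g w) ≫ (ChGrp.twist i (aZ' i aZ aY j c aY' hY hc)).act) ≫ j' j c aY' :=
          (Category.assoc _ _ _).symm
      _ = lift (g * (h ≫ i)⁻¹) (pt (aZ' i aZ aY j c aY' hY hc) h w) ≫ j' j c aY' := by
          rw [htw]
      _ = pt aY' (g * (h ≫ i)⁻¹) (pt (aZ' i aZ aY j c aY' hY hc) h w ≫ d' j c) := hlj _ _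
      _ = pt aY' (g * (h ≫ i)⁻¹) (pt aY' (h ≫ i) (w ≫ d' j c)) := by rw [hd]
      _ = pt aY' g (w ≫ d' j c) := by rw [← mul_pt, inv_mul_cancel_right]
      _ = lift g w ≫ j' j c aY' := (hlj _ _).symm
      _ = lift h (lift g w) ≫ snd H (G ⊗ Z' j c) ≫ j' j c aY' := by rw [lift_snd_assoc]
  refine isPullback_of_existsUnique w ?_
  intro T γ₁ γ₂ e
  obtain ⟨g₁, w₁, rfl⟩ : ∃ g₁ w₁, γ₁ = lift g₁ w₁ := ⟨_, _, dec γ₁⟩
  obtain ⟨g₂, w₂, rfl⟩ : ∃ g₂ w₂, γ₂ = lift g₂ w₂ := ⟨_, _, dec γ₂⟩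
  rw [hlj, hlj] at e
  have h1 : ∀ (g : T ⟶ G) (w : T ⟶ Z' j c),
      lift g (w ≫ c' j c) ≫ j = pt aY' g (w ≫ d' j c) ≫ c := by
    intro g w
    rw [← hlj, Category.assoc, hjc, lift_whiskerLeft_assoc]
  have e' : lift g₁ (w₁ ≫ c' j c) ≫ j = lift g₂ (w₂ ≫ c' j c) ≫ j := by
    rw [h1, h1, e]
  obtain ⟨pb, hp1, hp2⟩ : ∃ pb : T ⟶ H ⊗ (G ⊗ Z),
      pb ≫ (ChGrp.twist i aZ).act = lift g₁ (w₁ ≫ c' j c) ∧
      pb ≫ snd _ _ = lift g₂ (w₂ ≫ c' j c) :=
    ⟨sq.lift _ _ e', sq.lift_fst _ _ e', sq.lift_snd _ _ e'⟩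
  obtain ⟨h, rfl⟩ : ∃ h : T ⟶ H, pb = lift h (lift g₂ (w₂ ≫ c' j c)) := by
    refine ⟨pb ≫ fst _ _, ?_⟩
    apply CartesianMonoidalCategory.hom_ext
    · rw [lift_fst]
    · rw [lift_snd, hp2]
  rw [ChGrp.lift_twist_act] at hp1
  have hg : g₂ * (h ≫ i)⁻¹ = g₁ := by
    have := congrArg (fun m => m ≫ fst G Z) hp1
    beta_reduce at this
    rw [lift_fst, lift_fst] at this
    exact this
  have hz : pt aZ h (w₂ ≫ c' j c) = w₁ ≫ c' j c := by
    have := congrArg (fun m => m ≫ snd G Z) hp1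
    beta_reduce at this
    rw [lift_snd, lift_snd] at this
    exact this
  have hw : pt (aZ' i aZ aY j c aY' hY hc) h w₂ = w₁ := by
    apply Z'_hom_ext
    · rw [hc', hz]
    · rw [hd]
      have h3 : w₁ ≫ d' j c = pt aY' (g₁⁻¹ * g₂) (w₂ ≫ d' j c) := by
        rw [mul_pt, ← e, ← mul_pt, inv_mul_cancel, one_pt]
      rw [h3, ← hg]
      congr 1
      group
  refine ⟨lift h (lift g₂ w₂), ⟨?_, lift_snd _ _⟩, ?_⟩
  · rw [htw, hg, hw]
  · rintro p' ⟨hp'1, hp'2⟩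
    obtain ⟨h', rfl⟩ : ∃ h' : T ⟶ H, p' = lift h' (lift g₂ w₂) := by
      refine ⟨p' ≫ fst _ _, ?_⟩
      apply CartesianMonoidalCategory.hom_ext
      · rw [lift_fst]
      · rw [lift_snd, hp'2]
    rw [htw] at hp'1
    have hg' : g₂ * (h' ≫ i)⁻¹ = g₁ := by
      have := congrArg (fun m => m ≫ fst G (Z' j c)) hp'1
      beta_reduce at this
      rw [lift_fst, lift_fst] at this
      exact this
    have hw' : pt (aZ' i aZ aY j c aY' hY hc) h' w₂ = w₁ := by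
      have := congrArg (fun m => m ≫ snd G (Z' j c)) hp'1
      beta_reduce at this
      rw [lift_snd, lift_snd] at this
      exact this
    have hz' : pt aZ h' (w₂ ≫ c' j c) = w₁ ≫ c' j c := by
      rw [← hc', hw']
    have hpp : lift h' (lift g₂ (w₂ ≫ c' j c)) = lift h (lift g₂ (w₂ ≫ c' j c)) := by
      apply sq.hom_ext
      · rw [ChGrp.lift_twist_act, ChGrp.lift_twist_act, hg', hg]
        congr 1
        exact hz'.trans hz.symm
      · rw [lift_snd, lift_snd]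
    have hh : h' = h := by
      have := congrArg (fun m => m ≫ fst _ _) hpp
      beta_reduce at this
      rw [lift_fst, lift_fst] at this
      exact this
    rw [hh]

include hY hc in
lemma locTriv_j' :
    NonAbH1.IsLocallyTrivialFor Scheme.fppfPrecoverage
      (Over.mk (j' j c aY').left : Over Y'.left) := by
  obtain ⟨R, hR, hsec⟩ := hY.2.2
  refine ⟨R.pullbackArrows c.left, Precoverage.pullbackArrows_mem c.left hR, ?_⟩
  rintro W' f' ⟨W, f, hf⟩
  obtain ⟨s, hs⟩ := hsec f hf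
  have hs' : s ≫ j.left = f := hs
  let T' : Over S := Over.mk (pullback.snd f c.left ≫ Y'.hom)
  let y' : T' ⟶ Y' := Over.homMk (pullback.snd f c.left) rfl
  have hζ : (pullback.fst f c.left ≫ s) ≫ (G ⊗ Z).hom = pullback.snd f c.left ≫ Y'.hom := by
    rw [← Over.w j, Category.assoc, reassoc_of% hs', pullback.condition_assoc, Over.w c]
  let ζ : T' ⟶ G ⊗ Z := Over.homMk (pullback.fst f c.left ≫ s) hζ
  have hζj : ζ ≫ j = y' ≫ c := by
    ext
    simp only [Over.comp_left, Over.homMk_left, ζ, y', Category.assoc]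
    rw [hs', pullback.condition]
  let g : T' ⟶ G := ζ ≫ fst G Z
  let z : T' ⟶ Z := ζ ≫ snd G Z
  have hζ' : ζ = lift g z := by rw [← comp_lift, lift_fst_snd, Category.comp_id]
  have hcond : z ≫ ιe j = pt aY' g⁻¹ y' ≫ c := by
    rw [pt_c aY c aY' hc, ← hζj, hζ', ← E1' i aZ aY j hY, inv_mul_cancel, comp_ιe]
  let w : T' ⟶ Z' j c := liftZ' j c z (pt aY' g⁻¹ y') hcond
  have hσ : lift g w ≫ j' j c aY' = y' := by
    rw [lift_j', liftZ'_d', ← mul_pt, mul_inv_cancel, one_pt]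
  refine ⟨(lift g w).left, ?_⟩
  have := congrArg (fun m => m.left) hσ
  simpa [y'] using this

include hY hc in
theorem main [IsClosedImmersion c.left] :
    ∃ (Z' : Over S) (c' : Z' ⟶ Z) (aZ' : AlgGrp.Action H Z') (j' : G ⊗ Z' ⟶ Y'),
      IsClosedImmersion c'.left ∧ AlgGrp.Action.IsEquivariant aZ' aZ c' ∧
      j' ≫ c = (G ◁ c') ≫ j ∧ ChGrp.IsBalProd Scheme.fppfPrecoverage i aZ' aY' j' :=
  ⟨Z' j c, c' j c, aZ' i aZ aY j c aY' hY hc, j' j c aY',
    by show IsClosedImmersion (pullback.fst (ιe j).left c.left); infer_instance,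
    actZ'_c' i aZ aY j c aY' hY hc, j'_c i aZ aY j c aY' hY hc,
    equivariant_j' j c aY', isPullback_j' i aZ aY j c aY' hY hc,
    locTriv_j' i aZ aY j c aY' hY hc⟩

end points

end Groth.Agent.Lib.Helper28.BalProdClosed
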