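import Groth.Agent.Lib.Helper28.Torsor.BalProdClosed
import Groth.Agent.Lib.Helper29.TorsorDesc
import Groth.Agent.S0083
import Mathlib.CategoryTheory.Limits.Constructions.Over.Connected

/-!
# The fixed locus of a central element in a balanced product (S19099)
-/

set_option autoImplicit false
set_option maxHeartbeats 1600000
universe u

open CategoryTheory MonoidalCategory CartesianMonoidalCategory MonObj GrpObj AlgebraicGeometry
open CategoryTheory.Limits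

namespace Groth.Agent.Lib.Helper28.BalProdFixed

open Groth.Agent.Lib.Helper28.TorsorLoc Groth.Agent.Lib.Helper28.BalProdQuot
  Groth.Agent.Lib.Helper28.BalProdClosed Groth.Agent.Lib.Helper29

variable {S : Scheme.{u}}

lemma dec {A B T : Over S} (γ : T ⟶ A ⊗ B) : γ = lift (γ ≫ fst _ _) (γ ≫ snd _ _) := by
  rw [← comp_lift, lift_fst_snd, Category.comp_id]

lemma isPullback_whiskerLeft {A B B' : Over S} (f : B' ⟶ B) :
    IsPullback (snd A B') (A ◁ f) f (snd A B) := by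
  refine isPullback_of_existsUnique (whiskerLeft_snd _ _).symm ?_
  intro T a b e
  refine ⟨lift (b ≫ fst _ _) a, ⟨lift_snd _ _, ?_⟩, ?_⟩
  · rw [lift_whiskerLeft, e, ← dec]
  · rintro p ⟨h1, h2⟩
    apply CartesianMonoidalCategory.hom_ext
    · rw [lift_fst, ← h2, Category.assoc, whiskerLeft_fst]
    · rw [lift_snd, h1]

variable {G H Z Y : Over S} [GrpObj G] [GrpObj H] (i : H ⟶ G) [IsMonHom i]
  (aZ : AlgGrp.Action H Z) (aY : AlgGrp.Action G Y) (j : G ⊗ Z ⟶ Y)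

/-- two points of `G × Z` with the same image in the balanced product differ by a point of `H` -/
lemma F3 (hY : ChGrp.IsBalProd Scheme.fppfPrecoverage i aZ aY j) {T : Over S}
    (g₁ g₂ : T ⟶ G) (z₁ z₂ : T ⟶ Z) (e : lift g₁ z₁ ≫ j = lift g₂ z₂ ≫ j) :
    ∃ h : T ⟶ H, g₂ * (h ≫ i)⁻¹ = g₁ ∧ pt aZ h z₂ = z₁ := by
  have sq := hY.2.1
  obtain ⟨pb, hp1, hp2⟩ : ∃ pb : T ⟶ H ⊗ (G ⊗ Z),
      pb ≫ (ChGrp.twist i aZ).act = lift g₁ z₁ ∧ pb ≫ snd _ _ = lift g₂ z₂ :=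
    ⟨sq.lift _ _ e, sq.lift_fst _ _ e, sq.lift_snd _ _ e⟩
  obtain ⟨h, rfl⟩ : ∃ h : T ⟶ H, pb = lift h (lift g₂ z₂) := by
    refine ⟨pb ≫ fst _ _, ?_⟩
    apply CartesianMonoidalCategory.hom_ext
    · rw [lift_fst]
    · rw [lift_snd, hp2]
  rw [ChGrp.lift_twist_act] at hp1
  refine ⟨h, ?_, ?_⟩
  · have := congrArg (fun m => m ≫ fst G Z) hp1
    beta_reduce at this
    rw [lift_fst, lift_fst] at this
    exact this
  · have := congrArg (fun m => m ≫ snd G Z) hp1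
    beta_reduce at this
    rw [lift_snd, lift_snd] at this
    exact this

lemma E2' (hY : ChGrp.IsBalProd Scheme.fppfPrecoverage i aZ aY j) {T : Over S}
    (h : T ⟶ H) (g : T ⟶ G) (z : T ⟶ Z) :
    lift (g * (h ≫ i)⁻¹) (pt aZ h z) ≫ j = lift g z ≫ j :=
  E2 i aZ aY j hY h g z

variable {Zh Y' : Over S} (hpt : 𝟙_ (Over S) ⟶ H)
  (incl : Zh ⟶ Z) (aZh : AlgGrp.Action H Zh)
  (aY' : AlgGrp.Action G Y') (j' : G ⊗ Zh ⟶ Y') (m : Y' ⟶ Y)

section

variable (hincl : AlgGrp.Action.IsEquivariant aZh aZ incl)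

include hincl in
lemma pt_incl {T : Over S} (h : T ⟶ H) (z : T ⟶ Zh) :
    pt aZh h z ≫ incl = pt aZ h (z ≫ incl) := by
  unfold pt
  have e : aZh.act ≫ incl = (H ◁ incl) ≫ aZ.act := hincl
  rw [Category.assoc, e, lift_whiskerLeft_assoc]

variable (hm : j' ≫ m = (G ◁ incl) ≫ j)

include hm in
lemma j_m {T : Over S} (g : T ⟶ G) (z : T ⟶ Zh) :
    lift g z ≫ j' ≫ m = lift g (z ≫ incl) ≫ j := by
  rw [hm, lift_whiskerLeft_assoc]

variable [Mono incl]
  (hY : ChGrp.IsBalProd Scheme.fppfPrecoverage i aZ aY j)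
  (hY' : ChGrp.IsBalProd Scheme.fppfPrecoverage i aZh aY' j')

include hincl hm hY hY' in
theorem mono_m : Mono m := by
  obtain ⟨R', hR', hsec⟩ := hY'.2.2
  have hsec' : ∀ ⦃V : Scheme.{u}⦄ (f : V ⟶ Y'.left), R' f →
      ∃ s : V ⟶ (G ⊗ Zh).left, s ≫ j'.left = f := fun V f hf => hsec f hf
  constructor
  intro T y₁ y₂ e
  refine hom_ext_of_local_lift j' R' hR' hsec' y₁ y₁ y₂ (fun T₁ q₁ ζ₁ h₁ => ?_)
  refine hom_ext_of_local_lift j' R' hR' hsec' (q₁ ≫ y₂) (q₁ ≫ y₁) (q₁ ≫ y₂)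
    (fun T₂ q₂ ζ₂ h₂ => ?_)
  obtain ⟨g₁, z₁, hζ₁⟩ : ∃ g z, q₂ ≫ ζ₁ = lift g z := ⟨_, _, dec _⟩
  obtain ⟨g₂, z₂, hζ₂⟩ : ∃ g z, ζ₂ = lift g z := ⟨_, _, dec _⟩
  have e1 : q₂ ≫ q₁ ≫ y₁ = lift g₁ z₁ ≫ j' := by rw [← hζ₁, Category.assoc, h₁]
  have e2 : q₂ ≫ q₁ ≫ y₂ = lift g₂ z₂ ≫ j' := by rw [← hζ₂, h₂]
  rw [e1, e2]
  have e3 : lift g₁ (z₁ ≫ incl) ≫ j = lift g₂ (z₂ ≫ incl) ≫ j := by
    rw [← j_m j incl j' m hm, ← j_m j incl j' m hm, ← Category.assoc, ← Category.assoc, ← e1,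
      ← e2]
    simp only [Category.assoc, e]
  obtain ⟨h, hg, hz⟩ := F3 i aZ aY j hY g₁ g₂ (z₁ ≫ incl) (z₂ ≫ incl) e3
  have hz' : pt aZh h z₂ = z₁ := by
    rw [← cancel_mono incl, pt_incl aZ incl aZh hincl, hz]
  rw [← hg, ← hz']
  exact E2' i aZh aY' j' hY' h g₂ z₂

variable (hcent : ∀ (T : Over S) (g : T ⟶ G),
    g * (toUnit T ≫ hpt ≫ i) = (toUnit T ≫ hpt ≫ i) * g)
  (hZh : ∀ (T : Over S) (z : T ⟶ Z),
    (∃ y : T ⟶ Zh, y ≫ incl = z) ↔ lift (toUnit T ≫ hpt) z ≫ aZ.act = z)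

include hcent hY in
/-- `c • [g, z] = [g, h • z]` -/
lemma central_act {T : Over S} (g : T ⟶ G) (z : T ⟶ Z) :
    lift (toUnit T ≫ hpt ≫ i) (lift g z ≫ j) ≫ aY.act = lift g (pt aZ (toUnit T ≫ hpt) z) ≫ j := by
  rw [← E1 i aZ aY j hY, ← hcent]
  have h := E2' i aZ aY j hY (toUnit T ≫ hpt) (g * (toUnit T ≫ hpt ≫ i)) z
  rw [← h]
  congr 2
  rw [Category.assoc, mul_inv_cancel_right]

include hcent hY hZh hm hY' in
theorem fixed_of_factors {T : Over S} (y' : T ⟶ Y') :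
    lift (toUnit T ≫ hpt ≫ i) (y' ≫ m) ≫ aY.act = y' ≫ m := by
  obtain ⟨R', hR', hsec⟩ := hY'.2.2
  have hsec' : ∀ ⦃V : Scheme.{u}⦄ (f : V ⟶ Y'.left), R' f →
      ∃ s : V ⟶ (G ⊗ Zh).left, s ≫ j'.left = f := fun V f hf => hsec f hf
  refine hom_ext_of_local_lift j' R' hR' hsec' y' _ _ (fun T₁ q ζ hζ => ?_)
  obtain ⟨g, z, rfl⟩ : ∃ g z, ζ = lift g z := ⟨_, _, dec _⟩
  have e1 : q ≫ y' ≫ m = lift g (z ≫ incl) ≫ j := by
    rw [← Category.assoc, ← hζ, Category.assoc, j_m j incl j' m hm]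
  have hc : q ≫ toUnit T ≫ hpt ≫ i = toUnit T₁ ≫ hpt ≫ i := by
    rw [← Category.assoc]
    congr 1
    exact toUnit_unique _ _
  rw [← Category.assoc, comp_lift, e1, hc, central_act i aZ aY j hpt hY hcent]
  have hfix : pt aZ (toUnit T₁ ≫ hpt) (z ≫ incl) = z ≫ incl := (hZh T₁ (z ≫ incl)).1 ⟨z, rfl⟩
  rw [hfix]

include hcent hY hZh in
/-- a point `[g, z]` fixed by `c` has `z` in the fixed locus -/
lemma loc [Mono i] {T : Over S} (g : T ⟶ G) (z : T ⟶ Z)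
    (hfix : lift (toUnit T ≫ hpt ≫ i) (lift g z ≫ j) ≫ aY.act = lift g z ≫ j) :
    ∃ z' : T ⟶ Zh, z' ≫ incl = z := by
  rw [central_act i aZ aY j hpt hY hcent] at hfix
  obtain ⟨h', hg, hz⟩ := F3 i aZ aY j hY g g (pt aZ (toUnit T ≫ hpt) z) z hfix
  have h1 : (h' ≫ i)⁻¹ = 1 := by
    have := congrArg (fun t => g⁻¹ * t) hg
    simpa using this
  have h2 : h' ≫ i = (1 : T ⟶ H) ≫ i := by
    rw [MonObj.one_comp]
    exact inv_eq_one.mp h1
  have h3 : h' = 1 := (cancel_mono i).1 h2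
  rw [h3, one_pt] at hz
  exact (hZh T z).2 hz.symm

include hincl hm hY hY' hcent hZh in
theorem factors_of_fixed [Mono i] {T : Over S} (y : T ⟶ Y)
    (hy : lift (toUnit T ≫ hpt ≫ i) y ≫ aY.act = y) : ∃ y' : T ⟶ Y', y' ≫ m = y := by
  obtain ⟨R, hR, hsec⟩ := hY.2.2
  have hsec' : ∀ ⦃V : Scheme.{u}⦄ (f : V ⟶ Y.left), R f →
      ∃ s : V ⟶ (G ⊗ Z).left, s ≫ j.left = f := fun V f hf => hsec f hf
  haveI := mono_m i aZ aY j incl aZh aY' j' m hincl hm hY hY'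
  let T₁ : Over S := Over.mk (pullback.fst y.left j.left ≫ T.hom)
  let p : T₁ ⟶ T := Over.homMk (pullback.fst y.left j.left) rfl
  let ζ : T₁ ⟶ G ⊗ Z := Over.homMk (pullback.snd y.left j.left) (by
    show pullback.snd y.left j.left ≫ (G ⊗ Z).hom = pullback.fst y.left j.left ≫ T.hom
    rw [← Over.w j, ← Over.w y, ← Category.assoc, ← pullback.condition, Category.assoc])
  have hζ : ζ ≫ j = p ≫ y := by
    ext
    exact pullback.condition.symm
  haveI : EffectiveEpi p.left := by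
    show EffectiveEpi (pullback.fst y.left j.left)
    refine effectiveEpi_of_locallySplit _ (R.pullbackArrows y.left)
      (Precoverage.pullbackArrows_mem y.left hR) ?_
    rintro _ _ ⟨V, g, hg⟩
    obtain ⟨s, hs⟩ := hsec' g hg
    exact ⟨pullback.lift (pullback.snd g y.left) (pullback.fst g y.left ≫ s) (by
      rw [Category.assoc, hs, pullback.condition]), pullback.lift_fst _ _ _⟩
  haveI : Epi p.left := inferInstance
  haveI : Epi p := Over.epi_of_epi_left _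
  obtain ⟨g, z, hgz⟩ : ∃ g z, ζ = lift g z := ⟨_, _, dec _⟩
  have hfix : lift (toUnit T₁ ≫ hpt ≫ i) (lift g z ≫ j) ≫ aY.act = lift g z ≫ j := by
    rw [← hgz, hζ]
    have hc : toUnit T₁ ≫ hpt ≫ i = p ≫ toUnit T ≫ hpt ≫ i := by
      rw [← Category.assoc p, toUnit_unique (p ≫ toUnit T) (toUnit T₁)]
    rw [hc, ← comp_lift, Category.assoc, hy]
  obtain ⟨z', hz'⟩ := loc i aZ aY j hpt incl hY hcent hZh g z hfix
  have hy₁' : lift g z' ≫ j' ≫ m = p ≫ y := by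
    rw [j_m j incl j' m hm, hz', ← hgz, hζ]
  have hy₁ : (lift g z' ≫ j') ≫ m = p ≫ y := by
    rw [Category.assoc, hy₁']
  obtain ⟨y', hy'⟩ := exists_desc_of_effectiveEpi p (lift g z' ≫ j') (fun T'' γ₁ γ₂ e => by
    rw [← cancel_mono m]
    simp only [Category.assoc]
    rw [hy₁', ← Category.assoc, e, Category.assoc])
  refine ⟨y', ?_⟩
  rw [← cancel_epi p, ← Category.assoc, hy', hy₁]

include hincl hm hY hY' hcent hZh in
theorem isPullback_m [Mono i] : IsPullback j' (G ◁ incl) m j := by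
  haveI := mono_m i aZ aY j incl aZh aY' j' m hincl hm hY hY'
  refine isPullback_of_existsUnique hm ?_
  intro T y' w e
  obtain ⟨g, z, rfl⟩ : ∃ g z, w = lift g z := ⟨_, _, dec _⟩
  have hfixed : lift (toUnit T ≫ hpt ≫ i) (lift g z ≫ j) ≫ aY.act = lift g z ≫ j := by
    rw [← e]
    exact fixed_of_factors i aZ aY j hpt incl aZh aY' j' m hm hY hY' hcent hZh y'
  obtain ⟨z', hz'⟩ := loc i aZ aY j hpt incl hY hcent hZh g z hfixed
  refine ⟨lift g z', ⟨?_, ?_⟩, ?_⟩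
  · rw [← cancel_mono m, Category.assoc, j_m j incl j' m hm, hz', e]
  · rw [lift_whiskerLeft, hz']
  · rintro p' ⟨-, h2⟩
    obtain ⟨g', z'', rfl⟩ : ∃ g z, p' = lift g z := ⟨_, _, dec _⟩
    rw [lift_whiskerLeft] at h2
    have hg := congrArg (fun t => t ≫ fst G Z) h2
    have hz := congrArg (fun t => t ≫ snd G Z) h2
    beta_reduce at hg hz
    rw [lift_fst, lift_fst] at hg
    rw [lift_snd, lift_snd, ← hz'] at hz
    rw [hg, (cancel_mono incl).1 hz]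

include hincl hm hY hY' hcent hZh in
theorem closed_m [Mono i] (hci : IsClosedImmersion incl.left) : IsClosedImmersion m.left := by
  obtain ⟨R, hR, hsec⟩ := hY.2.2
  have hR' := Scheme.fppfPrecoverage_le_fpqcPrecoverage _ hR
  haveI := Groth.Agent.S0083.result.{u}
  have h1 : IsClosedImmersion (G ◁ incl).left := by
    have sq := (isPullback_whiskerLeft (A := G) incl).map (Over.forget S)
    exact MorphismProperty.of_isPullback (P := @IsClosedImmersion) sq hci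
  have sqm := (isPullback_m i aZ aY j hpt incl aZh aY' j' m hincl hm hY hY' hcent hZh).map
    (Over.forget S)
  have h2 : IsClosedImmersion (pullback.snd m.left j.left) := by
    have e : pullback.snd m.left j.left = sqm.isoPullback.inv ≫ (G ◁ incl).left :=
      (sqm.isoPullback_inv_snd).symm
    rw [e]
    exact (MorphismProperty.cancel_left_of_respectsIso @IsClosedImmersion sqm.isoPullback.inv _).mpr
      h1
  refine TorsorDesc.of_fpqc @IsClosedImmersion m.left hR' (fun {U} g hg => ?_)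
  obtain ⟨s, hs⟩ := hsec g hg
  have hs' : s ≫ j.left = g := hs
  exact (TorsorDesc.snd_congr @IsClosedImmersion m.left hs').mp
    (TorsorDesc.snd_comp @IsClosedImmersion m.left _ _ h2)

end

end Groth.Agent.Lib.Helper28.BalProdFixed
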