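import Groth.Agent.Lib.Helper28.Torsor.FpqcLoc
import Groth.Prelude.Def_ChGrp
import Groth.Prelude.Def_W4bk4git07Quot

/-!
# Categorical quotients of a balanced product: `(G ×^H Z) // G ≅ Z // H` (S19679)
-/

set_option autoImplicit false
universe u

open CategoryTheory MonoidalCategory CartesianMonoidalCategory MonObj GrpObj AlgebraicGeometry
open CategoryTheory.Limits

namespace Groth.Agent.Lib.Helper28.BalProdQuot

open Groth.Agent.Lib.Helper28.TorsorLoc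

/-- a morphism with sections over the members of an fppf covering is an effective epimorphism -/
lemma effectiveEpi_of_locallySplit {A B : Scheme.{u}} (j : A ⟶ B) (R : Presieve B)
    (hR : R ∈ Scheme.fppfPrecoverage B)
    (hsec : ∀ ⦃W : Scheme.{u}⦄ (f : W ⟶ B), R f → ∃ s : W ⟶ A, s ≫ j = f) : EffectiveEpi j := by
  rw [← Sieve.effectiveEpimorphic_singleton,
    Presieve.EffectiveEpimorphic.iff_forall_isSheafFor_yoneda]
  intro Z
  refine (GrothendieckTopology.Subcanonical.isSheaf_of_isRepresentable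
    (J := Scheme.fppfTopology) _).isSheafFor _ ?_
  refine GrothendieckTopology.superset_covering _ ?_
    (Precoverage.generate_mem_toGrothendieck hR)
  rw [Sieve.generate_le_iff]
  intro W f hf
  obtain ⟨s, hs⟩ := hsec f hf
  exact ⟨A, s, j, Presieve.singleton.mk, hs⟩

variable {S : Scheme.{u}}

/-- descent of a morphism along an effective epimorphism, in `Over S` -/
lemma exists_desc_of_effectiveEpi {A B W : Over S} (j : A ⟶ B) [EffectiveEpi j.left]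
    (e : A ⟶ W)
    (h : ∀ (T : Over S) (γ₁ γ₂ : T ⟶ A), γ₁ ≫ j = γ₂ ≫ j → γ₁ ≫ e = γ₂ ≫ e) :
    ∃ d : B ⟶ W, j ≫ d = e := by
  have hcond : ∀ {T : Scheme.{u}} (g₁ g₂ : T ⟶ A.left),
      g₁ ≫ j.left = g₂ ≫ j.left → g₁ ≫ e.left = g₂ ≫ e.left := by
    intro T g₁ g₂ e0
    let T' : Over S := Over.mk (g₁ ≫ A.hom)
    let γ₁ : T' ⟶ A := Over.homMk g₁ rfl
    have e2 : g₂ ≫ A.hom = g₁ ≫ A.hom := by
      have hw := Over.w j
      rw [← hw, ← Category.assoc, ← e0, Category.assoc]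
    let γ₂ : T' ⟶ A := Over.homMk g₂ e2
    have e' : γ₁ ≫ j = γ₂ ≫ j := by ext; exact e0
    have := congrArg (fun m => m.left) (h T' γ₁ γ₂ e')
    simpa [γ₁, γ₂] using this
  let d₀ : B.left ⟶ W.left := EffectiveEpi.desc j.left e.left hcond
  have hd₀ : j.left ≫ d₀ = e.left := EffectiveEpi.fac _ _ _
  haveI : Epi j.left := inferInstance
  have hd₀S : d₀ ≫ W.hom = B.hom := by
    rw [← cancel_epi j.left, ← Category.assoc, hd₀, Over.w e, Over.w j]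
  exact ⟨Over.homMk d₀ hd₀S, by ext; exact hd₀⟩

/-- two morphisms agree if they agree after every base change over which a given point lifts along a
locally split morphism -/
lemma hom_ext_of_local_lift {A B W : Over S} (j : A ⟶ B) (R : Presieve B.left)
    (hR : R ∈ Scheme.fppfPrecoverage B.left)
    (hsec : ∀ ⦃V : Scheme.{u}⦄ (f : V ⟶ B.left), R f → ∃ s : V ⟶ A.left, s ≫ j.left = f)
    {T : Over S} (y : T ⟶ B) (u v : T ⟶ W)
    (h : ∀ (T' : Over S) (q : T' ⟶ T) (ζ : T' ⟶ A), ζ ≫ j = q ≫ y → q ≫ u = q ≫ v) : u = v := by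
  ext
  have hR' : R ∈ Scheme.fpqcPrecoverage B.left := Scheme.fppfPrecoverage_le_fpqcPrecoverage _ hR
  refine hom_ext_sv R hR' (Over.mk y.left) u.left v.left (fun V' q hq => ?_)
  obtain ⟨V, f, hf, t, ht⟩ := hq
  obtain ⟨s, hs⟩ := hsec f hf
  have ht' : t ≫ f = q ≫ y.left := ht
  have hζ : (t ≫ s) ≫ A.hom = q ≫ T.hom := by
    rw [← Over.w j, Category.assoc, reassoc_of% hs, reassoc_of% ht', Over.w y]
  let T' : Over S := Over.mk (q ≫ T.hom)
  let q' : T' ⟶ T := Over.homMk q rfl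
  let ζ : T' ⟶ A := Over.homMk (t ≫ s) hζ
  have hζj : ζ ≫ j = q' ≫ y := by
    ext
    simp only [Over.comp_left, Over.homMk_left, ζ, q', Category.assoc]
    rw [hs, ht']
  have := congrArg (fun m => m.left) (h T' q' ζ hζj)
  simpa [q'] using this

variable {G H Z Y P Q : Over S} [GrpObj G] [GrpObj H] (i : H ⟶ G) [IsMonHom i]
  (aZ : AlgGrp.Action H Z) (aY : AlgGrp.Action G Y) (j : G ⊗ Z ⟶ Y)

/-- points form of equivariance of `j` -/
lemma E1 (hY : ChGrp.IsBalProd Scheme.fppfPrecoverage i aZ aY j) {T : Over S}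
    (g g' : T ⟶ G) (z : T ⟶ Z) :
    lift (g * g') z ≫ j = lift g (lift g' z ≫ j) ≫ aY.act := by
  have h := hY.1
  unfold AlgGrp.Action.IsEquivariant at h
  have h2 := congrArg (fun m => lift g (lift g' z) ≫ m) h
  beta_reduce at h2
  rw [AlgGrp.Action.lift_prod_act_assoc, AlgGrp.Action.lift_trivial_act, lift_whiskerLeft_assoc]
    at h2
  rw [← h2]
  rfl

/-- points form of invariance of `j` under the twisted action -/
lemma E2 (hY : ChGrp.IsBalProd Scheme.fppfPrecoverage i aZ aY j) {T : Over S}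
    (h : T ⟶ H) (g : T ⟶ G) (z : T ⟶ Z) :
    lift (g * (h ≫ i)⁻¹) (lift h z ≫ aZ.act) ≫ j = lift g z ≫ j := by
  have hw := hY.2.1.w
  have h2 := congrArg (fun m => lift h (lift g z) ≫ m) hw
  beta_reduce at h2
  rw [ChGrp.lift_twist_act_assoc, lift_snd_assoc] at h2
  exact h2

variable (πZ : Z ⟶ P) (πY : Y ⟶ Q)

lemma E3 (hY : ChGrp.IsBalProd Scheme.fppfPrecoverage i aZ aY j) (hQ : GIT.IsInvariant aY πY)
    {T : Over S} (g : T ⟶ G) (z : T ⟶ Z) :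
    lift g z ≫ j ≫ πY = lift (1 : T ⟶ G) z ≫ j ≫ πY := by
  have h1 := E1 i aZ aY j hY g 1 z
  rw [_root_.mul_one] at h1
  unfold GIT.IsInvariant at hQ
  rw [reassoc_of% h1, hQ, lift_snd_assoc, Category.assoc]

theorem main (hY : ChGrp.IsBalProd Scheme.fppfPrecoverage i aZ aY j)
    (hP : GIT.IsCatQuot aZ πZ) (hQ : GIT.IsCatQuot aY πY) :
    ∃ (φ : P ⟶ Q) (χ : Q ⟶ P), φ ≫ χ = 𝟙 P ∧ χ ≫ φ = 𝟙 Q ∧
      πZ ≫ φ = lift (toUnit Z ≫ η[G]) (𝟙 Z) ≫ j ≫ πY ∧ j ≫ πY ≫ χ = snd G Z ≫ πZ := by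
  obtain ⟨R, hR, hsec⟩ := hY.2.2
  have hsec' : ∀ ⦃V : Scheme.{u}⦄ (f : V ⟶ Y.left), R f →
      ∃ s : V ⟶ (G ⊗ Z).left, s ≫ j.left = f := fun V f hf => hsec f hf
  haveI : EffectiveEpi j.left := effectiveEpi_of_locallySplit j.left R hR hsec'
  haveI : Epi j.left := inferInstance
  haveI : Epi j := Over.epi_of_epi_left _
  have hPinv : aZ.act ≫ πZ = snd H Z ≫ πZ := hP.1
  have hQinv : aY.act ≫ πY = snd G Y ≫ πY := hQ.1
  -- points of ψ₀
  have hψ₀ : ∀ {T : Over S} (z : T ⟶ Z),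
      z ≫ lift (toUnit Z ≫ η[G]) (𝟙 Z) ≫ j ≫ πY = lift (1 : T ⟶ G) z ≫ j ≫ πY := by
    intro T z
    have : z ≫ lift (toUnit Z ≫ η[G]) (𝟙 Z) = lift (1 : T ⟶ G) z := by
      rw [comp_lift, Category.comp_id, ← Category.assoc, comp_toUnit, Hom.one_def]
    rw [reassoc_of% this]
  -- φ
  have hinv₀ : GIT.IsInvariant aZ (lift (toUnit Z ≫ η[G]) (𝟙 Z) ≫ j ≫ πY) := by
    unfold GIT.IsInvariant
    apply AlgGrp.Action.hom_ext_lift₂
    intro T h z
    rw [lift_snd_assoc, ← Category.assoc (lift h z), hψ₀, hψ₀]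
    have h2 := E2 i aZ aY j hY h (h ≫ i) z
    rw [mul_inv_cancel] at h2
    rw [reassoc_of% h2]
    exact E3 i aZ aY j πY hY hQ.1 (h ≫ i) z
  obtain ⟨φ, hφ, -⟩ := hP.2 Q _ hinv₀
  -- ψ
  obtain ⟨ψ, hψ⟩ := exists_desc_of_effectiveEpi j (snd G Z ≫ πZ) (by
    intro T γ₁ γ₂ e
    obtain ⟨p, h1, h2⟩ : ∃ p : T ⟶ H ⊗ (G ⊗ Z),
        p ≫ (ChGrp.twist i aZ).act = γ₁ ∧ p ≫ snd H (G ⊗ Z) = γ₂ :=
      ⟨hY.2.1.lift γ₁ γ₂ e, hY.2.1.lift_fst γ₁ γ₂ e, hY.2.1.lift_snd γ₁ γ₂ e⟩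
    obtain ⟨h, g, z, rfl⟩ : ∃ (h : T ⟶ H) (g : T ⟶ G) (z : T ⟶ Z), p = lift h (lift g z) := by
      refine ⟨p ≫ fst _ _, p ≫ snd _ _ ≫ fst G Z, p ≫ snd _ _ ≫ snd G Z, ?_⟩
      apply CartesianMonoidalCategory.hom_ext
      · rw [lift_fst]
      · rw [lift_snd]
        apply CartesianMonoidalCategory.hom_ext
        · rw [lift_fst, Category.assoc]
        · rw [lift_snd, Category.assoc]
    subst h1 h2
    simp only [Category.assoc]
    rw [ChGrp.lift_twist_act_assoc]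
    simp only [lift_snd_assoc, Category.assoc]
    rw [hPinv, lift_snd_assoc])
  have hψinv : GIT.IsInvariant aY ψ := by
    unfold GIT.IsInvariant
    refine hom_ext_of_local_lift j R hR hsec' (snd G Y) _ _ (fun T' q ζ hζ => ?_)
    have hq : q = lift (q ≫ fst G Y) (ζ ≫ j) := by
      apply CartesianMonoidalCategory.hom_ext
      · rw [lift_fst]
      · rw [lift_snd, hζ]
    have hζ' : ζ = lift (ζ ≫ fst G Z) (ζ ≫ snd G Z) := by
      rw [← comp_lift, lift_fst_snd, Category.comp_id]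
    have h1 := E1 i aZ aY j hY (q ≫ fst G Y) (ζ ≫ fst G Z) (ζ ≫ snd G Z)
    rw [← hζ'] at h1
    rw [← Category.assoc q (snd G Y), ← hζ, Category.assoc, hψ]
    conv_lhs => rw [hq]
    rw [← reassoc_of% h1, hψ, lift_snd_assoc]
    conv_rhs => rw [hζ', lift_snd_assoc]
  obtain ⟨χ, hχ, -⟩ := hQ.2 P ψ hψinv
  have hχ' : πY ≫ χ = ψ := hχ
  have hφ' : πZ ≫ φ = lift (toUnit Z ≫ η[G]) (𝟙 Z) ≫ j ≫ πY := hφ
  refine ⟨φ, χ, ?_, ?_, hφ', by rw [hχ', hψ]⟩
  · -- φ ≫ χ = 𝟙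
    obtain ⟨c, -, hc⟩ := hP.2 P πZ hP.1
    have e1 : φ ≫ χ = c := hc _ (by
      show πZ ≫ φ ≫ χ = πZ
      rw [reassoc_of% hφ', hχ', hψ, lift_snd_assoc, Category.id_comp])
    have e2 : 𝟙 P = c := hc _ (Category.comp_id _)
    rw [e1, e2]
  · -- χ ≫ φ = 𝟙
    obtain ⟨c, -, hc⟩ := hQ.2 Q πY hQ.1
    have hψφ : ψ ≫ φ = πY := by
      rw [← cancel_epi j, reassoc_of% hψ, hφ']
      apply AlgGrp.Action.hom_ext_lift₂
      intro T g z
      rw [lift_snd_assoc, hψ₀]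
      exact (E3 i aZ aY j πY hY hQ.1 g z).symm
    have e1 : χ ≫ φ = c := hc _ (by
      show πY ≫ χ ≫ φ = πY
      rw [reassoc_of% hχ', hψφ])
    have e2 : 𝟙 Q = c := hc _ (Category.comp_id _)
    rw [e1, e2]

end Groth.Agent.Lib.Helper28.BalProdQuot
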