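import Groth.Agent.Lib.Helper28.Torsor.FpqcLoc
import Groth.Prelude.Def_ChGrp

/-!
# The kernel of the action on a homogeneous space `G/H` is the core of `H` (S18763)
-/

set_option autoImplicit false
universe u

open CategoryTheory MonoidalCategory CartesianMonoidalCategory MonObj GrpObj AlgebraicGeometry
open CategoryTheory.Limits

namespace Groth.Agent.Lib.Helper28.TorsorLoc

variable {S : Scheme.{u}} {G H Q : Over S} [GrpObj G] [GrpObj H] (i : H ⟶ G)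
  (aQ : AlgGrp.Action G Q) (q₀ : 𝟙_ (Over S) ⟶ Q)

lemma comp_orbitMap {T : Over S} (g : T ⟶ G) :
    g ≫ aQ.orbitMap q₀ = pt aQ g (toUnit T ≫ q₀) := by
  unfold AlgGrp.Action.orbitMap pt
  rw [← Category.assoc, comp_lift, Category.comp_id, ← Category.assoc, comp_toUnit]

/-- from the cartesian square: `π g₁ = π g₂` gives `h` with `g₁ i(h) = g₂` -/
lemma exists_of_orbit_eq
    (sq : IsPullback (fst G H) ((G ◁ i) ≫ μ[G]) (aQ.orbitMap q₀) (aQ.orbitMap q₀))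
    {T : Over S} (g₁ g₂ : T ⟶ G) (e : g₁ ≫ aQ.orbitMap q₀ = g₂ ≫ aQ.orbitMap q₀) :
    ∃ h : T ⟶ H, g₁ * (h ≫ i) = g₂ := by
  refine ⟨sq.lift g₁ g₂ e ≫ snd G H, ?_⟩
  have h1 : sq.lift g₁ g₂ e = lift g₁ (sq.lift g₁ g₂ e ≫ snd G H) := by
    apply CartesianMonoidalCategory.hom_ext
    · rw [lift_fst, sq.lift_fst]
    · rw [lift_snd]
  have h2 := sq.lift_snd g₁ g₂ e
  rw [h1, lift_whiskerLeft_assoc] at h2
  rw [Hom.mul_def]
  exact h2

/-- `H` fixes the base point -/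
lemma pt_H_bp
    (sq : IsPullback (fst G H) ((G ◁ i) ≫ μ[G]) (aQ.orbitMap q₀) (aQ.orbitMap q₀))
    {T : Over S} (h : T ⟶ H) : pt aQ (h ≫ i) (toUnit T ≫ q₀) = toUnit T ≫ q₀ := by
  have h0 := congrArg (fun m => lift (1 : T ⟶ G) h ≫ m) sq.w
  simp only [Category.assoc] at h0
  rw [lift_fst_assoc, lift_whiskerLeft_assoc, ← Category.assoc, ← Hom.mul_def, _root_.one_mul,
    comp_orbitMap, comp_orbitMap, one_pt] at h0
  exact h0.symm

theorem core_main (hQ : ChGrp.IsHomog Scheme.fppfPrecoverage i aQ q₀)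
    {N : Over S} [GrpObj N] (n : N ⟶ G)
    (hN : ∀ (T : Over S) (g : T ⟶ G), (∃ g' : T ⟶ N, g' ≫ n = g) ↔
      ∀ (T' : Over S) (v : T' ⟶ T) (q : T' ⟶ Q), lift (v ≫ g) q ≫ aQ.act = q) :
    AlgGrp.IsNormalHom n ∧ (∃ m : N ⟶ H, m ≫ i = n) ∧
      ∀ (N' : Over S) [GrpObj N'] (n' : N' ⟶ G),
        AlgGrp.IsNormalHom n' → (∃ m' : N' ⟶ H, m' ≫ i = n') → ∃ r : N' ⟶ N, r ≫ n = n' := by
  obtain ⟨-, sq, R, hR, hsec⟩ := hQ
  refine ⟨?_, ?_, ?_⟩
  · -- normal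
    intro T g m
    obtain ⟨m', hm'⟩ := (hN T (g * (m ≫ n) * g⁻¹)).2 (fun T' v q => by
      show pt aQ (v ≫ (g * (m ≫ n) * g⁻¹)) q = q
      have hm : ∀ q' : T' ⟶ Q, pt aQ (v ≫ m ≫ n) q' = q' := fun q' =>
        (hN T (m ≫ n)).1 ⟨m, rfl⟩ T' v q'
      rw [comp_mul, comp_mul, comp_inv, mul_pt, mul_pt, hm, ← mul_pt, mul_inv_cancel, one_pt])
    exact ⟨m', hm'.symm⟩
  · -- contained in H
    have e : (1 : N ⟶ G) ≫ aQ.orbitMap q₀ = n ≫ aQ.orbitMap q₀ := by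
      rw [comp_orbitMap, comp_orbitMap, one_pt]
      have := (hN N n).1 ⟨𝟙 N, Category.id_comp n⟩ N (𝟙 N) (toUnit N ≫ q₀)
      rw [Category.id_comp] at this
      exact this.symm
    obtain ⟨h, hh⟩ := exists_of_orbit_eq i aQ q₀ sq _ _ e
    exact ⟨h, by rw [← hh, _root_.one_mul]⟩
  · -- largest
    intro N' _ n' hnorm ⟨m', hm'⟩
    refine (hN N' n').2 (fun T' v q => ?_)
    show pt aQ (v ≫ n') q = q
    ext
    have hR' : R ∈ Scheme.fpqcPrecoverage Q.left := Scheme.fppfPrecoverage_le_fpqcPrecoverage _ hR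
    refine hom_ext_sv R hR' (Over.mk q.left) (pt aQ (v ≫ n') q).left q.left (fun Y w hw => ?_)
    obtain ⟨W, f, hf, t, ht⟩ := hw
    obtain ⟨s, hs⟩ := hsec f hf
    have hs' : s ≫ (aQ.orbitMap q₀).left = f := hs
    have ht' : t ≫ f = w ≫ q.left := ht
    have hw1 : (t ≫ s) ≫ G.hom = w ≫ T'.hom := by
      rw [← Over.w (aQ.orbitMap q₀), Category.assoc, reassoc_of% hs', reassoc_of% ht', Over.w q]
    let Y' : Over S := Over.mk (w ≫ T'.hom)
    let w' : Y' ⟶ T' := Over.homMk w rfl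
    let γ : Y' ⟶ G := Over.homMk (t ≫ s) hw1
    have hγ : γ ≫ aQ.orbitMap q₀ = w' ≫ q := by
      ext
      simp only [Over.comp_left, Over.homMk_left, γ, w', Category.assoc]
      rw [hs', ht']
    obtain ⟨m'', hm''⟩ := hnorm Y' γ⁻¹ (w' ≫ v)
    rw [_root_.inv_inv] at hm''
    have key : w' ≫ pt aQ (v ≫ n') q = w' ≫ q := by
      have h1 : (w' ≫ v ≫ n') * γ = γ * (m'' ≫ m' ≫ i) := by
        rw [hm', ← hm'', Category.assoc]
        group
      rw [comp_pt, ← hγ, comp_orbitMap, ← mul_pt, h1, mul_pt, ← Category.assoc m'' m' i,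
        pt_H_bp i aQ q₀ sq]
    have := congrArg (fun m => m.left) key
    simpa [w'] using this

end Groth.Agent.Lib.Helper28.TorsorLoc
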