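import Groth.Agent.Lib.Helper28.Torsor.FpqcLoc
import Groth.Prelude.Def_ActBC

/-!
# fpqc torsors and faithfully flat quasi-compact base change (S14547)
-/

set_option autoImplicit false
universe u

open CategoryTheory MonoidalCategory CartesianMonoidalCategory MonObj GrpObj AlgebraicGeometry
open CategoryTheory.Limits

namespace Groth.Agent.Lib.Helper28.TorsorLoc

variable {S S' : Scheme.{u}} (f : S' ⟶ S) {G X : Over S} [GrpObj G] (a : AlgGrp.Action G X)

/-- simple transitivity transfers along an isomorphism of test objects -/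
lemma st_of_iso {U U' : Over S} (e : U ≅ U')
    (H : ∀ x x' : U' ⟶ X, ∃! g : U' ⟶ G, pt a g x = x') (x x' : U ⟶ X) :
    ∃! g : U ⟶ G, pt a g x = x' := by
  obtain ⟨g', hg', hu⟩ := H (e.inv ≫ x) (e.inv ≫ x')
  refine ⟨e.hom ≫ g', ?_, ?_⟩
  · show pt a (e.hom ≫ g') x = x'
    calc pt a (e.hom ≫ g') x = pt a (e.hom ≫ g') (e.hom ≫ e.inv ≫ x) := by
          rw [Iso.hom_inv_id_assoc]
      _ = e.hom ≫ pt a g' (e.inv ≫ x) := (comp_pt a _ _ _).symm
      _ = x' := by rw [hg', Iso.hom_inv_id_assoc]
  · intro g hg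
    have : e.inv ≫ g = g' := hu _ (by
      show pt a (e.inv ≫ g) (e.inv ≫ x) = e.inv ≫ x'
      rw [← comp_pt, hg])
    rw [← this, Iso.hom_inv_id_assoc]

/-- simple transitivity for the base-changed action gives simple transitivity on test objects
coming from the new base -/
lemma st_map_of_bc
    (hps : ∀ (T' : Over S') (y y' : T' ⟶ Red.bc f X), ∃! γ : T' ⟶ Red.bc f G,
      pt (a.bc f) γ y = y')
    (T' : Over S') (x x' : (Over.map f).obj T' ⟶ X) :
    ∃! g : (Over.map f).obj T' ⟶ G, pt a g x = x' := by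
  obtain ⟨γ, hγ, hu⟩ := hps T' ((Over.mapPullbackAdj f).homEquiv T' X x)
    ((Over.mapPullbackAdj f).homEquiv T' X x')
  have key : ∀ g : (Over.map f).obj T' ⟶ G,
      pt (a.bc f) ((Over.mapPullbackAdj f).homEquiv T' G g)
        ((Over.mapPullbackAdj f).homEquiv T' X x)
        = (Over.mapPullbackAdj f).homEquiv T' X (pt a g x) :=
    fun g => AlgGrp.Action.lift_homEquiv_bc_act f a g x
  refine ⟨((Over.mapPullbackAdj f).homEquiv T' G).symm γ, ?_, ?_⟩
  · show pt a (((Over.mapPullbackAdj f).homEquiv T' G).symm γ) x = x'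
    apply ((Over.mapPullbackAdj f).homEquiv T' X).injective
    rw [← key, Equiv.apply_symm_apply, hγ]
  · intro g hg
    have : (Over.mapPullbackAdj f).homEquiv T' G g = γ := hu _ (by
      show pt (a.bc f) ((Over.mapPullbackAdj f).homEquiv T' G g)
        ((Over.mapPullbackAdj f).homEquiv T' X x) = (Over.mapPullbackAdj f).homEquiv T' X x'
      rw [key, hg])
    rw [← this, Equiv.symm_apply_apply]

/-- **S14547**. -/
theorem main_bc [Flat f] [Surjective f] [QuasiCompact f]
    (a' : AlgGrp.Action (Red.bc f G) (Red.bc f X))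
    (ha' : Functor.LaxMonoidal.μ (Over.pullback f) G X ≫ (Over.pullback f).map a.act = a'.act) :
    NonAbH1.IsTorsorFor Scheme.fpqcPrecoverage a ↔
      NonAbH1.IsTorsorFor Scheme.fpqcPrecoverage a' := by
  have e : a' = a.bc f := AlgGrp.Action.ext' ha'.symm
  subst e
  have hf : Presieve.singleton f ∈ Scheme.fpqcPrecoverage S :=
    Scheme.Hom.singleton_mem_fpqcPrecoverage f
  constructor
  · exact NonAbH1.isTorsorFor_bc f _
  · rintro ⟨hps, R', hR', hsec⟩
    constructor
    · show IsIso (lift a.act (snd G X))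
      rw [psi_iff]
      refine descend a (Presieve.singleton f) hf ?_
      rintro S'' _ ⟨⟩ U t x x'
      have e : U ≅ (Over.map f).obj (Over.mk t.left) :=
        Over.isoMk (Iso.refl _) (by simpa using (Over.w t))
      exact st_of_iso a e
        (st_map_of_bc f a ((psi_iff (a.bc f)).1 hps) (Over.mk t.left)) x x'
    · obtain ⟨I, Z, g, rfl⟩ := R'.exists_eq_ofArrows
      refine ⟨Presieve.ofArrows (fun p : Σ _ : PUnit.{u + 2}, I => Z p.2)
        (fun p => g p.2 ≫ f), ?_, ?_⟩
      · exact Precoverage.comp_mem_coverings (J := Scheme.fpqcPrecoverage)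
          (X := fun _ : PUnit.{u + 2} => S') (fun _ => f)
          (by rw [Presieve.ofArrows_pUnit]; exact hf)
          (σ := fun _ => I) (Y := fun _ => Z) (fun _ => g) (fun _ => hR')
      · rintro S'' _ ⟨⟨_, i⟩⟩
        obtain ⟨s, hs⟩ := hsec (g i) ⟨i⟩
        refine ⟨s ≫ pullback.fst X.hom f, ?_⟩
        have hs' : s ≫ pullback.snd X.hom f = g i := by simpa using hs
        rw [Category.assoc, pullback.condition, ← Category.assoc, hs']

end Groth.Agent.Lib.Helper28.TorsorLoc
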