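import Groth.Prelude.Def_AlgGrp
import Groth.Prelude.Def_NonAbH2
import Mathlib.AlgebraicGeometry.Sites.Fpqc
import Mathlib.CategoryTheory.Monoidal.Cartesian.Over
import Mathlib.CategoryTheory.Monoidal.Grp

/-!
# fpqc torsors: pseudo-torsor + local sections ⇔ locally equivariantly trivial

Everything is done on `T`-valued points: `IsIso (g,x) ↦ (gx,x)` is the same as simple transitivity of
`G(T)` on `X(T)` for all `T`; simple transitivity descends along an fpqc covering because representable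
presheaves are fpqc sheaves.
-/

set_option autoImplicit false
universe u

open CategoryTheory MonoidalCategory CartesianMonoidalCategory MonObj GrpObj AlgebraicGeometry
open CategoryTheory.Limits

namespace Groth.Agent.Lib.Helper28.TorsorLoc

variable {S : Scheme.{u}} {G X : Over S} [GrpObj G] (a : AlgGrp.Action G X)

/-- the action on `T`-valued points -/
noncomputable def pt {T : Over S} (g : T ⟶ G) (x : T ⟶ X) : T ⟶ X := lift g x ≫ a.act

lemma comp_pt {T U : Over S} (u : U ⟶ T) (g : T ⟶ G) (x : T ⟶ X) :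
    u ≫ pt a g x = pt a (u ≫ g) (u ≫ x) := by
  unfold pt; rw [← Category.assoc, comp_lift]

lemma one_pt {T : Over S} (x : T ⟶ X) : pt a (1 : T ⟶ G) x = x := by
  unfold pt
  have h1 : lift (1 : T ⟶ G) x = lift (toUnit T) x ≫ (η[G] ▷ X) := by
    rw [lift_whiskerRight, Hom.one_def]
  rw [h1, Category.assoc, a.one_act, lift_leftUnitor_hom]

lemma mul_pt {T : Over S} (g h : T ⟶ G) (x : T ⟶ X) :
    pt a (g * h) x = pt a g (pt a h x) := by
  unfold pt
  have h1 : lift (g * h) x = lift (lift g h) x ≫ (μ[G] ▷ X) := by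
    rw [lift_whiskerRight, Hom.mul_def]
  rw [h1, Category.assoc, a.mul_act, lift_lift_associator_hom_assoc, lift_whiskerLeft_assoc]

/-- change of base point for simple transitivity -/
lemma st_of_st {T : Over S} (x₀ : T ⟶ X)
    (H : ∀ x' : T ⟶ X, ∃! g : T ⟶ G, pt a g x₀ = x') (x x' : T ⟶ X) :
    ∃! g : T ⟶ G, pt a g x = x' := by
  obtain ⟨h, hh, -⟩ := H x
  obtain ⟨h', hh', hu'⟩ := H x'
  have hinv : pt a h⁻¹ x = x₀ := by
    rw [← hh, ← mul_pt, inv_mul_cancel, one_pt]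
  refine ⟨h' * h⁻¹, ?_, ?_⟩
  · show pt a (h' * h⁻¹) x = x'
    rw [mul_pt, hinv, hh']
  · intro g hg
    have : g * h = h' := hu' _ (by show pt a (g * h) x₀ = x'; rw [mul_pt, hh, hg])
    rw [← this, mul_inv_cancel_right]

/-- `(g, x) ↦ (gx, x)` is an isomorphism iff `G(T)` acts simply transitively on `X(T)` for all `T`. -/
lemma psi_iff : IsIso (lift a.act (snd G X)) ↔
    ∀ (T : Over S) (x x' : T ⟶ X), ∃! g : T ⟶ G, pt a g x = x' := by
  constructor
  · intro hiso T x x'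
    have hp : (lift x' x ≫ inv (lift a.act (snd G X))) ≫ lift a.act (snd G X) = lift x' x := by
      rw [Category.assoc, IsIso.inv_hom_id, Category.comp_id]
    set p := lift x' x ≫ inv (lift a.act (snd G X)) with hpdef
    have hp1 : p ≫ a.act = x' := by
      have := congrArg (· ≫ fst X X) hp
      simpa using this
    have hp2 : p ≫ snd G X = x := by
      have := congrArg (· ≫ snd X X) hp
      simpa using this
    have hpl : p = lift (p ≫ fst G X) x := by
      apply CartesianMonoidalCategory.hom_ext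
      · rw [lift_fst]
      · rw [lift_snd, hp2]
    refine ⟨p ≫ fst G X, ?_, ?_⟩
    · show pt a (p ≫ fst G X) x = x'
      unfold pt
      rw [← hpl, hp1]
    · intro g hg
      have hg' : lift g x ≫ a.act = x' := hg
      have h1 : lift g x ≫ lift a.act (snd G X) = p ≫ lift a.act (snd G X) := by
        rw [hp, comp_lift, hg', lift_snd]
      have h2 : lift g x = p := (cancel_mono _).1 h1
      rw [← h2, lift_fst]
  · intro H
    obtain ⟨g₀, hg₀, -⟩ := H (X ⊗ X) (snd X X) (fst X X)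
    have hg₀' : lift g₀ (snd X X) ≫ a.act = fst X X := hg₀
    refine ⟨⟨lift g₀ (snd X X), ?_, ?_⟩⟩
    · -- Ψ ≫ Θ = 𝟙
      rw [comp_lift, lift_snd]
      have key : lift a.act (snd G X) ≫ g₀ = fst G X := by
        obtain ⟨g₁, -, hu⟩ := H (G ⊗ X) (snd G X) a.act
        have e1 : fst G X = g₁ := hu _ (by
          show lift (fst G X) (snd G X) ≫ a.act = a.act
          rw [lift_fst_snd, Category.id_comp])
        have e2 : lift a.act (snd G X) ≫ g₀ = g₁ := hu _ (by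
          show lift (lift a.act (snd G X) ≫ g₀) (snd G X) ≫ a.act = a.act
          have : lift (lift a.act (snd G X) ≫ g₀) (snd G X)
              = lift a.act (snd G X) ≫ lift g₀ (snd X X) := by
            rw [comp_lift, lift_snd]
          rw [this, Category.assoc, hg₀', lift_fst])
        rw [e2, e1]
      rw [key, lift_fst_snd]
    · -- Θ ≫ Ψ = 𝟙
      rw [comp_lift, hg₀', lift_snd, lift_fst_snd]

/-- `(g, t) ↦ (g s(t), t)` is an isomorphism iff `G(U)` acts simply transitively on `X(U)` from the base point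
`s ∘ t` for every `t : U ⟶ T₀`. -/
lemma phi_iff {T₀ : Over S} (s : T₀ ⟶ X) :
    IsIso (lift ((G ◁ s) ≫ a.act) (snd G T₀)) ↔
    ∀ (U : Over S) (t : U ⟶ T₀) (x : U ⟶ X), ∃! g : U ⟶ G, pt a g (t ≫ s) = x := by
  constructor
  · intro hiso U t x
    have hp : (lift x t ≫ inv (lift ((G ◁ s) ≫ a.act) (snd G T₀))) ≫
        lift ((G ◁ s) ≫ a.act) (snd G T₀) = lift x t := by
      rw [Category.assoc, IsIso.inv_hom_id, Category.comp_id]
    set p := lift x t ≫ inv (lift ((G ◁ s) ≫ a.act) (snd G T₀)) with hpdef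
    have hp1 : p ≫ (G ◁ s) ≫ a.act = x := by
      have := congrArg (· ≫ fst X T₀) hp
      simpa using this
    have hp2 : p ≫ snd G T₀ = t := by
      have := congrArg (· ≫ snd X T₀) hp
      simpa using this
    have hpl : p = lift (p ≫ fst G T₀) t := by
      apply CartesianMonoidalCategory.hom_ext
      · rw [lift_fst]
      · rw [lift_snd, hp2]
    refine ⟨p ≫ fst G T₀, ?_, ?_⟩
    · show pt a (p ≫ fst G T₀) (t ≫ s) = x
      unfold pt
      rw [← lift_whiskerLeft, ← hpl, Category.assoc, hp1]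
    · intro g hg
      have hg' : lift g (t ≫ s) ≫ a.act = x := hg
      have h1 : lift g t ≫ lift ((G ◁ s) ≫ a.act) (snd G T₀)
          = p ≫ lift ((G ◁ s) ≫ a.act) (snd G T₀) := by
        rw [hp, comp_lift, lift_whiskerLeft_assoc, hg', lift_snd]
      have h2 : lift g t = p := (cancel_mono _).1 h1
      rw [← h2, lift_fst]
  · intro H
    obtain ⟨g₀, hg₀, -⟩ := H (X ⊗ T₀) (snd X T₀) (fst X T₀)
    have hg₀' : lift g₀ (snd X T₀ ≫ s) ≫ a.act = fst X T₀ := hg₀
    refine ⟨⟨lift g₀ (snd X T₀), ?_, ?_⟩⟩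
    · rw [comp_lift, lift_snd]
      have key : lift ((G ◁ s) ≫ a.act) (snd G T₀) ≫ g₀ = fst G T₀ := by
        obtain ⟨g₁, -, hu⟩ := H (G ⊗ T₀) (snd G T₀) ((G ◁ s) ≫ a.act)
        have e1 : fst G T₀ = g₁ := hu _ (by
          show lift (fst G T₀) (snd G T₀ ≫ s) ≫ a.act = (G ◁ s) ≫ a.act
          rw [← lift_whiskerLeft, lift_fst_snd, Category.id_comp])
        have e2 : lift ((G ◁ s) ≫ a.act) (snd G T₀) ≫ g₀ = g₁ := hu _ (by
          show lift (lift ((G ◁ s) ≫ a.act) (snd G T₀) ≫ g₀) (snd G T₀ ≫ s) ≫ a.act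
            = (G ◁ s) ≫ a.act
          have : lift (lift ((G ◁ s) ≫ a.act) (snd G T₀) ≫ g₀) (snd G T₀ ≫ s)
              = lift ((G ◁ s) ≫ a.act) (snd G T₀) ≫ lift g₀ (snd X T₀ ≫ s) := by
            rw [comp_lift, lift_snd_assoc]
          rw [this, Category.assoc, hg₀', lift_fst])
        rw [e2, e1]
      rw [key, lift_fst_snd]
    · rw [comp_lift, lift_snd, lift_whiskerLeft_assoc, hg₀', lift_fst_snd]

/-! ### descent of simple transitivity along an fpqc covering of the base -/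

/-- the sieve on `T.left` of the morphisms whose composite to `S` factors through a member of `R` -/
def sv (R : Presieve S) (T : Over S) : Sieve T.left where
  arrows Y q := ∃ (S' : Scheme.{u}) (f : S' ⟶ S) (_ : R f) (t : Y ⟶ S'), t ≫ f = q ≫ T.hom
  downward_closed := by
    rintro Y Z q ⟨S', f, hf, t, ht⟩ r
    exact ⟨S', f, hf, r ≫ t, by rw [Category.assoc, ht, Category.assoc]⟩

lemma sv_mem (R : Presieve S) (hR : R ∈ Scheme.fpqcPrecoverage S) (T : Over S) :
    sv R T ∈ Scheme.fpqcTopology T.left := by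
  have h1 : R.pullbackArrows T.hom ∈ Scheme.fpqcPrecoverage T.left :=
    Precoverage.pullbackArrows_mem T.hom hR
  refine GrothendieckTopology.superset_covering _ ?_ (Precoverage.generate_mem_toGrothendieck h1)
  rw [Sieve.generate_le_iff]
  rintro _ _ ⟨Z, h, hh⟩
  exact ⟨Z, h, hh, pullback.fst h T.hom, pullback.condition⟩

lemma yoneda_sheafFor (R : Presieve S) (hR : R ∈ Scheme.fpqcPrecoverage S) (T : Over S)
    (Z : Scheme.{u}) : Presieve.IsSheafFor (yoneda.obj Z) (sv R T).arrows :=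
  (GrothendieckTopology.Subcanonical.isSheaf_of_isRepresentable
    (J := Scheme.fpqcTopology) (yoneda.obj Z)) _ (sv_mem R hR T)

/-- morphisms out of `T.left` are determined on the sieve -/
lemma hom_ext_sv (R : Presieve S) (hR : R ∈ Scheme.fpqcPrecoverage S) (T : Over S)
    {Z : Scheme.{u}} (u v : T.left ⟶ Z)
    (h : ∀ ⦃Y : Scheme.{u}⦄ (q : Y ⟶ T.left), (sv R T).arrows q → q ≫ u = q ≫ v) : u = v :=
  (yoneda_sheafFor R hR T Z).isSeparatedFor.ext (t₁ := u) (t₂ := v) (fun Y q hq => h q hq)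

/-- the structure morphism to `T` of `Y` over `S` via `q` -/
abbrev inc {T : Over S} {Y : Scheme.{u}} (q : Y ⟶ T.left) : Over.mk (q ≫ T.hom) ⟶ T :=
  Over.homMk q rfl

/-- `γ : Y ⟶ G` is a solution of `g x = x'` over `q : Y ⟶ T` -/
def Sol {T : Over S} (x x' : T ⟶ X) {Y : Scheme.{u}} (q : Y ⟶ T.left) (γ : Y ⟶ G.left) : Prop :=
  ∃ g : Over.mk (q ≫ T.hom) ⟶ G, g.left = γ ∧ pt a g (inc q ≫ x) = inc q ≫ x'

lemma Sol.comp {T : Over S} {x x' : T ⟶ X} {Y Z : Scheme.{u}} {q : Y ⟶ T.left} {γ : Y ⟶ G.left}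
    (h : Sol a x x' q γ) (r : Z ⟶ Y) : Sol a x x' (r ≫ q) (r ≫ γ) := by
  obtain ⟨g, rfl, hg⟩ := h
  let ρ : Over.mk ((r ≫ q) ≫ T.hom) ⟶ Over.mk (q ≫ T.hom) :=
    Over.homMk r (by simp)
  have hρ : (inc (r ≫ q) : Over.mk ((r ≫ q) ≫ T.hom) ⟶ T) = ρ ≫ inc q := by
    ext; simp [ρ]
  refine ⟨ρ ≫ g, by simp [ρ], ?_⟩
  rw [hρ, show (ρ ≫ inc q) ≫ x = ρ ≫ (inc q ≫ x) from Category.assoc _ _ _,
    show (ρ ≫ inc q) ≫ x' = ρ ≫ (inc q ≫ x') from Category.assoc _ _ _, ← comp_pt, hg]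

lemma Sol.of_global {T : Over S} {x x' : T ⟶ X} (g : T ⟶ G) (hg : pt a g x = x')
    {Y : Scheme.{u}} (q : Y ⟶ T.left) : Sol a x x' q (q ≫ g.left) :=
  ⟨inc q ≫ g, by simp, by rw [← comp_pt, hg]⟩

theorem descend (R : Presieve S) (hR : R ∈ Scheme.fpqcPrecoverage S)
    (H : ∀ ⦃S' : Scheme.{u}⦄ (f : S' ⟶ S), R f → ∀ (U : Over S) (_ : U ⟶ Over.mk f)
      (x x' : U ⟶ X), ∃! g : U ⟶ G, pt a g x = x')
    (T : Over S) (x x' : T ⟶ X) : ∃! g : T ⟶ G, pt a g x = x' := by
  -- local unique solvability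
  have loc : ∀ ⦃Y : Scheme.{u}⦄ (q : Y ⟶ T.left), (sv R T).arrows q →
      ∃! γ : Y ⟶ G.left, Sol a x x' q γ := by
    rintro Y q ⟨S', f, hf, t, ht⟩
    obtain ⟨g, hg, hu⟩ := H f hf (Over.mk (q ≫ T.hom)) (Over.homMk t ht) (inc q ≫ x) (inc q ≫ x')
    refine ⟨g.left, ⟨g, rfl, hg⟩, ?_⟩
    rintro γ' ⟨g', rfl, hg'⟩
    rw [hu g' hg']
  -- uniqueness
  have huniq : ∀ g g' : T ⟶ G, pt a g x = x' → pt a g' x = x' → g = g' := by
    intro g g' hg hg'
    ext
    refine hom_ext_sv R hR T _ _ (fun Y q hq => ?_)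
    exact (loc q hq).unique (Sol.of_global a g hg q) (Sol.of_global a g' hg' q)
  -- existence
  let fam : Presieve.FamilyOfElements (yoneda.obj G.left) (sv R T).arrows :=
    fun Y q hq => (loc q hq).choose
  have hfam : ∀ ⦃Y : Scheme.{u}⦄ (q : Y ⟶ T.left) (hq : (sv R T).arrows q),
      Sol a x x' q (fam q hq) := fun Y q hq => (loc q hq).choose_spec.1
  have hcompat : fam.Compatible := by
    intro Y₁ Y₂ Z g₁ g₂ f₁ f₂ h₁ h₂ e
    show g₁ ≫ fam f₁ h₁ = g₂ ≫ fam f₂ h₂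
    have s1 : Sol a x x' (g₁ ≫ f₁) (g₁ ≫ fam f₁ h₁) := (hfam f₁ h₁).comp a g₁
    have s2 : Sol a x x' (g₂ ≫ f₂) (g₂ ≫ fam f₂ h₂) := (hfam f₂ h₂).comp a g₂
    rw [← e] at s2
    exact (loc (g₁ ≫ f₁) ((sv R T).downward_closed h₁ g₁)).unique s1 s2
  obtain ⟨γ, hγ, -⟩ := (yoneda_sheafFor R hR T G.left) fam hcompat
  have hγ' : ∀ ⦃Y : Scheme.{u}⦄ (q : Y ⟶ T.left) (hq : (sv R T).arrows q),
      q ≫ γ = fam q hq := fun Y q hq => hγ q hq
  have hγS : γ ≫ G.hom = T.hom := by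
    refine hom_ext_sv R hR T _ _ (fun Y q hq => ?_)
    obtain ⟨g, hgl, -⟩ := hfam q hq
    rw [← Category.assoc, hγ' q hq, ← hgl]
    exact Over.w g
  refine ⟨Over.homMk γ hγS, ?_, fun g' hg' => huniq _ _ hg' ?_⟩
  all_goals
    show pt a (Over.homMk γ hγS) x = x'
    ext
    refine hom_ext_sv R hR T _ _ (fun Y q hq => ?_)
    obtain ⟨g, hgl, hg⟩ := hfam q hq
    have e1 : inc q ≫ (Over.homMk γ hγS : T ⟶ G) = g := by
      ext
      rw [hgl, ← hγ' q hq]
      simp
    have e2 : inc q ≫ pt a (Over.homMk γ hγS) x = inc q ≫ x' := by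
      rw [comp_pt, e1, hg]
    have := congrArg (fun m => m.left) e2
    simpa using this

/-- **S14445**. -/
theorem main :
    NonAbH1.IsTorsorFor Scheme.fpqcPrecoverage a ↔
      ∃ R ∈ Scheme.fpqcPrecoverage S, ∀ ⦃S' : Scheme.{u}⦄ (f : S' ⟶ S), R f →
        ∃ s : Over.mk f ⟶ X, IsIso (lift ((G ◁ s) ≫ a.act) (snd G (Over.mk f))) := by
  constructor
  · rintro ⟨hps, R, hR, hsec⟩
    refine ⟨R, hR, fun S' f hf => ?_⟩
    obtain ⟨s, hs⟩ := hsec f hf
    refine ⟨Over.homMk s hs, ?_⟩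
    rw [phi_iff]
    intro U t x
    exact (psi_iff a).1 hps U (t ≫ Over.homMk s hs) x
  · rintro ⟨R, hR, H⟩
    refine ⟨?_, R, hR, fun S' f hf => ?_⟩
    · show IsIso (lift a.act (snd G X))
      rw [psi_iff]
      refine descend a R hR (fun S' f hf U t x x' => ?_)
      obtain ⟨s, hs⟩ := H f hf
      exact st_of_st a (t ≫ s) ((phi_iff a s).1 hs U t) x x'
    · obtain ⟨s, -⟩ := H f hf
      exact ⟨s.left, Over.w s⟩

end Groth.Agent.Lib.Helper28.TorsorLoc
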