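import Groth.Agent.Lib.Helper28.Torsor.FpqcLoc
import Groth.Prelude.Def_ChGrp
import Groth.Prelude.Def_ActBC

/-!
# Reduction of structure group from a section of the quotient (S16226)
-/

set_option autoImplicit false
universe u

open CategoryTheory MonoidalCategory CartesianMonoidalCategory MonObj GrpObj AlgebraicGeometry
open CategoryTheory.Limits

namespace Groth.Agent.Lib.Helper28.TorsorRed

open Groth.Agent.Lib.Helper28.TorsorLoc

variable {S : Scheme.{u}} {G F Q : Over S} [GrpObj G]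
  (b : AlgGrp.Action G F) (π : F ⟶ Q) (σ : 𝟙_ (Over S) ⟶ Q)

/-- the fibre of `π` over the section `σ` -/
noncomputable abbrev E : Over S := Limits.pullback π σ

noncomputable abbrev φ : E π σ ⟶ F := pullback.fst π σ

lemma φ_π : φ π σ ≫ π = toUnit (E π σ) ≫ σ := by
  rw [pullback.condition]
  congr 1
  exact toUnit_unique _ _

lemma E_hom_ext {T : Over S} (u v : T ⟶ E π σ) (h : u ≫ φ π σ = v ≫ φ π σ) : u = v := by
  apply pullback.hom_ext
  · exact h
  · exact toUnit_unique _ _

lemma isPullback_E : IsPullback (φ π σ) (toUnit (E π σ)) π σ := by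
  have h := IsPullback.of_hasPullback π σ
  have e : pullback.snd π σ = toUnit (E π σ) := toUnit_unique _ _
  rw [e] at h
  exact h

variable (hsq : IsPullback b.act (snd G F) π π)

include hsq in
lemma actE_cond : ((G ◁ φ π σ) ≫ b.act) ≫ π = toUnit (G ⊗ E π σ) ≫ σ := by
  rw [Category.assoc, hsq.w, whiskerLeft_snd_assoc, φ_π, ← Category.assoc]
  congr 1
  exact toUnit_unique _ _

noncomputable def actE : G ⊗ E π σ ⟶ E π σ :=
  pullback.lift ((G ◁ φ π σ) ≫ b.act) (toUnit _) (actE_cond b π σ hsq)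

lemma actE_φ : actE b π σ hsq ≫ φ π σ = (G ◁ φ π σ) ≫ b.act := by
  unfold actE
  exact pullback.lift_fst _ _ _

noncomputable def aE : AlgGrp.Action G (E π σ) where
  act := actE b π σ hsq
  one_act := by
    apply E_hom_ext
    rw [Category.assoc, actE_φ, ← whisker_exchange_assoc, b.one_act, leftUnitor_naturality]
  mul_act := by
    apply E_hom_ext
    simp only [Category.assoc, actE_φ]
    rw [← whisker_exchange_assoc, b.mul_act, ← MonoidalCategory.whiskerLeft_comp_assoc, actE_φ,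
      MonoidalCategory.whiskerLeft_comp_assoc, associator_naturality_right_assoc]

lemma aE_act : (aE b π σ hsq).act = actE b π σ hsq := rfl

lemma pt_φ {T : Over S} (g : T ⟶ G) (x : T ⟶ E π σ) :
    pt (aE b π σ hsq) g x ≫ φ π σ = pt b g (x ≫ φ π σ) := by
  unfold pt
  rw [Category.assoc, aE_act, actE_φ, lift_whiskerLeft_assoc]

theorem isPseudoTorsor_E : IsIso (lift (aE b π σ hsq).act (snd G (E π σ))) := by
  rw [psi_iff]
  intro T x x'
  have e : (x' ≫ φ π σ) ≫ π = (x ≫ φ π σ) ≫ π := by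
    rw [Category.assoc, Category.assoc, φ_π, ← Category.assoc, ← Category.assoc]
    congr 1
    exact toUnit_unique _ _
  have h1 := hsq.lift_fst (x' ≫ φ π σ) (x ≫ φ π σ) e
  have h2 := hsq.lift_snd (x' ≫ φ π σ) (x ≫ φ π σ) e
  set p := hsq.lift (x' ≫ φ π σ) (x ≫ φ π σ) e with hp
  have hpl : p = lift (p ≫ fst G F) (x ≫ φ π σ) := by
    apply CartesianMonoidalCategory.hom_ext
    · rw [lift_fst]
    · rw [lift_snd, h2]
  refine ⟨p ≫ fst G F, ?_, ?_⟩
  · show pt (aE b π σ hsq) (p ≫ fst G F) x = x'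
    apply E_hom_ext
    rw [pt_φ b π σ hsq]
    unfold pt
    rw [← hpl, h1]
  · intro g hg
    have hg' : pt b g (x ≫ φ π σ) = x' ≫ φ π σ := by
      rw [← pt_φ b π σ hsq, hg]
    have : lift g (x ≫ φ π σ) = p := by
      apply hsq.hom_ext
      · rw [h1]; exact hg'
      · rw [h2, lift_snd]
    rw [← this, lift_fst]

theorem locTriv_E
    (hloc : NonAbH1.IsLocallyTrivialFor Scheme.etalePrecoverage (Over.mk π.left : Over Q.left)) :
    NonAbH1.IsLocallyTrivialFor Scheme.etalePrecoverage (E π σ) := by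
  obtain ⟨R, hR, hsec⟩ := hloc
  let σ₀ : S ⟶ Q.left := σ.left
  have hσ₀ : σ₀ ≫ Q.hom = 𝟙 S := Over.w σ
  refine ⟨R.pullbackArrows σ₀, Precoverage.pullbackArrows_mem σ₀ hR, ?_⟩
  rintro T g ⟨W, f, hf⟩
  obtain ⟨s, hs⟩ := hsec f hf
  have hs' : s ≫ π.left = f := hs
  let T' : Over S := Over.mk (pullback.snd f σ₀)
  have hx : (pullback.fst f σ₀ ≫ s) ≫ F.hom = pullback.snd f σ₀ := by
    rw [← Over.w π, Category.assoc, reassoc_of% hs', pullback.condition_assoc, hσ₀,
      Category.comp_id]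
  let x : T' ⟶ F := Over.homMk (pullback.fst f σ₀ ≫ s) hx
  have hxπ : x ≫ π = toUnit T' ≫ σ := by
    ext
    simp only [Over.comp_left, Over.homMk_left, x, Category.assoc, Over.toUnit_left]
    rw [hs', pullback.condition]
    rfl
  let e : T' ⟶ E π σ := pullback.lift x (toUnit T') hxπ
  exact ⟨e.left, Over.w e⟩

/-- **S16226** -/
theorem main {H : Over S} [GrpObj H] (i : G ⟶ H) [IsMonHom i]
    (aF : AlgGrp.Action H F)
    (hsq : IsPullback (aF.restrict i).act (snd G F) π π)
    (hloc : NonAbH1.IsLocallyTrivialFor Scheme.etalePrecoverage (Over.mk π.left : Over Q.left)) :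
    ∃ (E : Over S) (aE : AlgGrp.Action G E) (φ : E ⟶ F),
      NonAbH1.IsTorsorFor Scheme.etalePrecoverage aE ∧
      AlgGrp.Action.IsEquivariant aE (aF.restrict i) φ ∧
      IsPullback φ (toUnit E) π σ :=
  ⟨E π σ, aE (aF.restrict i) π σ hsq, φ π σ,
    ⟨isPseudoTorsor_E (aF.restrict i) π σ hsq, locTriv_E π σ hloc⟩,
    actE_φ (aF.restrict i) π σ hsq, isPullback_E π σ⟩

end Groth.Agent.Lib.Helper28.TorsorRed
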