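import Groth.Agent.Lib.Helper28.Torsor.BalProdClosed
import Groth.Agent.Lib.Helper28.Torsor.CoreKer

/-!
# The part of the global stabilizer over a conjugacy class is a balanced product (S19098)
-/

set_option autoImplicit false
universe u

open CategoryTheory MonoidalCategory CartesianMonoidalCategory MonObj GrpObj AlgebraicGeometry
open CategoryTheory.Limits

namespace Groth.Agent.Lib.Helper28.StabPart

open Groth.Agent.Lib.Helper28.TorsorLoc Groth.Agent.Lib.Helper28.BalProdQuot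
  Groth.Agent.Lib.Helper28.BalProdClosed

variable {S : Scheme.{u}} {G X Z Ψ Xh SΨ : Over S} [GrpObj G] [GrpObj Z]
  (a : AlgGrp.Action G X) (h : 𝟙_ (Over S) ⟶ G) (i : Z ⟶ G) [IsMonHom i]
  (ψ : Ψ ⟶ G) (aΨ : AlgGrp.Action G Ψ) (o : 𝟙_ (Over S) ⟶ Ψ)
  (incl : Xh ⟶ X) (aXh : AlgGrp.Action Z Xh) (σ : SΨ ⟶ G ⊗ X) (aS : AlgGrp.Action G SΨ)
  (Φ : G ⊗ Xh ⟶ SΨ)

section pts

variable (hψ : aΨ.act ≫ ψ = fst G Ψ * (snd G Ψ ≫ ψ) * (fst G Ψ)⁻¹) (ho : o ≫ ψ = h)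
  (hincl : AlgGrp.Action.IsEquivariant aXh (a.restrict i) incl)
  (hσ : aS.act ≫ σ = lift (fst G SΨ * (snd G SΨ ≫ σ ≫ fst G X) * (fst G SΨ)⁻¹)
      (lift (fst G SΨ) (snd G SΨ ≫ σ ≫ snd G X) ≫ a.act))
  (hΦ : Φ ≫ σ = lift (fst G Xh * (toUnit (G ⊗ Xh) ≫ h) * (fst G Xh)⁻¹)
      (lift (fst G Xh) (snd G Xh ≫ incl) ≫ a.act))

include hψ in
lemma P_ψ {T : Over S} (g : T ⟶ G) (y : T ⟶ Ψ) : pt aΨ g y ≫ ψ = g * (y ≫ ψ) * g⁻¹ := by
  unfold pt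
  rw [Category.assoc, hψ, comp_mul, comp_mul, comp_inv, lift_fst, lift_snd_assoc]

include hΦ in
lemma P_Φ {T : Over S} (g : T ⟶ G) (y : T ⟶ Xh) :
    lift g y ≫ Φ ≫ σ = lift (g * (toUnit T ≫ h) * g⁻¹) (pt a g (y ≫ incl)) := by
  rw [hΦ, comp_lift]
  congr 1
  · rw [comp_mul, comp_mul, comp_inv, lift_fst, ← Category.assoc, comp_toUnit]
  · rw [← Category.assoc, comp_lift, lift_fst, lift_snd_assoc]
    rfl

include hσ in
lemma P_σ {T : Over S} (g : T ⟶ G) (s : T ⟶ SΨ) :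
    lift g s ≫ aS.act ≫ σ =
      lift (g * (s ≫ σ ≫ fst G X) * g⁻¹) (pt a g (s ≫ σ ≫ snd G X)) := by
  rw [hσ, comp_lift]
  congr 1
  · rw [comp_mul, comp_mul, comp_inv, lift_fst, lift_snd_assoc]
  · rw [← Category.assoc, comp_lift, lift_fst, lift_snd_assoc]
    rfl

include hincl in
lemma P_incl {T : Over S} (z : T ⟶ Z) (y : T ⟶ Xh) :
    pt aXh z y ≫ incl = pt a (z ≫ i) (y ≫ incl) := by
  unfold pt
  unfold AlgGrp.Action.IsEquivariant at hincl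
  rw [Category.assoc, hincl, lift_whiskerLeft_assoc, AlgGrp.Action.lift_restrict_act]

include hψ ho in
lemma P_π {T : Over S} (g : T ⟶ G) :
    (g ≫ aΨ.orbitMap o) ≫ ψ = g * (toUnit T ≫ h) * g⁻¹ := by
  rw [comp_orbitMap, P_ψ ψ aΨ hψ, Category.assoc, ho]

include hσ hΦ in
lemma equivariant_Φ [Mono σ] :
    AlgGrp.Action.IsEquivariant
      ((NonAbH1.trivialAction G).prod (AlgGrp.Action.trivial G Xh)) aS Φ := by
  unfold AlgGrp.Action.IsEquivariant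
  apply AlgGrp.Action.hom_ext_lift₂
  intro T g b
  obtain ⟨g', y, rfl⟩ : ∃ g' y, b = lift g' y :=
    ⟨b ≫ fst _ _, b ≫ snd _ _, by rw [← comp_lift, lift_fst_snd, Category.comp_id]⟩
  rw [← cancel_mono σ]
  have hmul : lift g g' ≫ (NonAbH1.trivialAction G).act = g * g' := by
    rw [Hom.mul_def]; rfl
  have e1 : (lift g (lift g' y) ≫
      ((NonAbH1.trivialAction G).prod (AlgGrp.Action.trivial G Xh)).act ≫ Φ) ≫ σ
      = lift ((g * g') * (toUnit T ≫ h) * (g * g')⁻¹) (pt a (g * g') (y ≫ incl)) := by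
    rw [AlgGrp.Action.lift_prod_act_assoc, AlgGrp.Action.lift_trivial_act, hmul, Category.assoc,
      P_Φ a h incl σ Φ hΦ]
  have e3 := P_Φ a h incl σ Φ hΦ g' y
  have e2 : (lift g (lift g' y) ≫ (G ◁ Φ) ≫ aS.act) ≫ σ
      = lift (g * (g' * (toUnit T ≫ h) * g'⁻¹) * g⁻¹) (pt a g (pt a g' (y ≫ incl))) := by
    rw [lift_whiskerLeft_assoc, Category.assoc, P_σ a σ aS hσ]
    congr 1
    · rw [Category.assoc, reassoc_of% e3, lift_fst]
    · rw [Category.assoc, reassoc_of% e3, lift_snd]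
  rw [e1, e2, mul_pt]
  congr 1
  group

variable (hhom : ChGrp.IsHomog Scheme.fppfPrecoverage i aΨ o)

include hψ ho hincl hΦ hhom in
lemma isPullback_Φ [Mono ψ] [Mono incl] [Mono σ] :
    IsPullback (ChGrp.twist i aXh).act (snd Z (G ⊗ Xh)) Φ Φ := by
  obtain ⟨-, sq, -⟩ := hhom
  have hcomm : ∀ {T : Over S} (z : T ⟶ Z),
      (z ≫ i)⁻¹ * (toUnit T ≫ h) * (z ≫ i) = toUnit T ≫ h := by
    intro T z
    have h1 := pt_H_bp i aΨ o sq z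
    have h2 := congrArg (fun m => m ≫ ψ) h1
    beta_reduce at h2
    rw [P_ψ ψ aΨ hψ, Category.assoc, ho] at h2
    conv_lhs => rw [← h2]
    group
  have dec : ∀ {T : Over S} (γ : T ⟶ G ⊗ Xh), γ = lift (γ ≫ fst _ _) (γ ≫ snd _ _) := by
    intro T γ; rw [← comp_lift, lift_fst_snd, Category.comp_id]
  have hPΦ : ∀ {T : Over S} (g : T ⟶ G) (y : T ⟶ Xh),
      lift g y ≫ Φ ≫ σ = lift (g * (toUnit T ≫ h) * g⁻¹) (pt a g (y ≫ incl)) :=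
    fun g y => P_Φ a h incl σ Φ hΦ g y
  have hPi : ∀ {T : Over S} (z : T ⟶ Z) (y : T ⟶ Xh),
      pt aXh z y ≫ incl = pt a (z ≫ i) (y ≫ incl) :=
    fun z y => P_incl a i incl aXh hincl z y
  have w : (ChGrp.twist i aXh).act ≫ Φ = snd Z (G ⊗ Xh) ≫ Φ := by
    apply AlgGrp.Action.hom_ext_lift₂
    intro T z b
    obtain ⟨g, y, rfl⟩ : ∃ g y, b = lift g y := ⟨_, _, dec b⟩
    rw [← cancel_mono σ]
    have l1 : (lift z (lift g y) ≫ (ChGrp.twist i aXh).act ≫ Φ) ≫ σ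
        = lift (g * (z ≫ i)⁻¹ * (toUnit T ≫ h) * (g * (z ≫ i)⁻¹)⁻¹)
          (pt a (g * (z ≫ i)⁻¹) ((lift z y ≫ aXh.act) ≫ incl)) := by
      rw [ChGrp.lift_twist_act_assoc, Category.assoc, hPΦ]
    have l2 : (lift z (lift g y) ≫ snd Z (G ⊗ Xh) ≫ Φ) ≫ σ
        = lift (g * (toUnit T ≫ h) * g⁻¹) (pt a g (y ≫ incl)) := by
      rw [lift_snd_assoc, Category.assoc, hPΦ]
    rw [l1, l2]
    have e5 : pt a (g * (z ≫ i)⁻¹) ((lift z y ≫ aXh.act) ≫ incl) = pt a g (y ≫ incl) := by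
      show pt a (g * (z ≫ i)⁻¹) (pt aXh z y ≫ incl) = pt a g (y ≫ incl)
      rw [hPi, ← mul_pt, inv_mul_cancel_right]
    rw [e5]
    congr 1
    calc g * (z ≫ i)⁻¹ * (toUnit T ≫ h) * (g * (z ≫ i)⁻¹)⁻¹
        = g * ((z ≫ i)⁻¹ * (toUnit T ≫ h) * (z ≫ i)) * g⁻¹ := by group
      _ = g * (toUnit T ≫ h) * g⁻¹ := by rw [hcomm z]
  refine isPullback_of_existsUnique w ?_
  intro T γ₁ γ₂ e
  obtain ⟨g₁, y₁, rfl⟩ : ∃ g₁ y₁, γ₁ = lift g₁ y₁ := ⟨_, _, dec γ₁⟩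
  obtain ⟨g₂, y₂, rfl⟩ : ∃ g₂ y₂, γ₂ = lift g₂ y₂ := ⟨_, _, dec γ₂⟩
  have e' := congrArg (fun m => m ≫ σ) e
  beta_reduce at e'
  rw [Category.assoc, Category.assoc, hPΦ, hPΦ] at e'
  have eg : g₁ * (toUnit T ≫ h) * g₁⁻¹ = g₂ * (toUnit T ≫ h) * g₂⁻¹ := by
    have := congrArg (fun m => m ≫ fst G X) e'
    beta_reduce at this
    rw [lift_fst, lift_fst] at this
    exact this
  have ex : pt a g₁ (y₁ ≫ incl) = pt a g₂ (y₂ ≫ incl) := by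
    have := congrArg (fun m => m ≫ snd G X) e'
    beta_reduce at this
    rw [lift_snd, lift_snd] at this
    exact this
  have eπ : g₁ ≫ aΨ.orbitMap o = g₂ ≫ aΨ.orbitMap o := by
    rw [← cancel_mono ψ, P_π h ψ aΨ o hψ ho, P_π h ψ aΨ o hψ ho, eg]
  obtain ⟨z, hz⟩ := exists_of_orbit_eq i aΨ o sq g₁ g₂ eπ
  have hg : g₂ * (z ≫ i)⁻¹ = g₁ := by rw [← hz]; group
  have hy : pt aXh z y₂ = y₁ := by
    rw [← cancel_mono incl, hPi]
    have h3 : y₁ ≫ incl = pt a (g₁⁻¹ * g₂) (y₂ ≫ incl) := by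
      rw [mul_pt, ← ex, ← mul_pt, inv_mul_cancel, one_pt]
    rw [h3, ← hz]
    congr 1
    group
  refine ⟨lift z (lift g₂ y₂), ⟨?_, lift_snd _ _⟩, ?_⟩
  · rw [ChGrp.lift_twist_act, hg]
    congr 1
  · rintro p' ⟨hp1, hp2⟩
    obtain ⟨z', rfl⟩ : ∃ z' : T ⟶ Z, p' = lift z' (lift g₂ y₂) := by
      refine ⟨p' ≫ fst _ _, ?_⟩
      apply CartesianMonoidalCategory.hom_ext
      · rw [lift_fst]
      · rw [lift_snd, hp2]
    rw [ChGrp.lift_twist_act] at hp1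
    have hg' : g₂ * (z' ≫ i)⁻¹ = g₁ := by
      have := congrArg (fun m => m ≫ fst G Xh) hp1
      beta_reduce at this
      rw [lift_fst, lift_fst] at this
      exact this
    have hpp : lift g₁ z' = lift g₁ z := by
      apply sq.hom_ext
      · rw [lift_fst, lift_fst]
      · rw [lift_whiskerLeft_assoc, lift_whiskerLeft_assoc, ← Hom.mul_def, ← Hom.mul_def, hz,
          ← hg']
        group
    have hzz : z' = z := by
      have := congrArg (fun m => m ≫ snd G Z) hpp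
      beta_reduce at this
      rw [lift_snd, lift_snd] at this
      exact this
    rw [hzz]

variable (hXh : ∀ (T : Over S) (x : T ⟶ X),
    (∃ y : T ⟶ Xh, y ≫ incl = x) ↔ lift (toUnit T ≫ h) x ≫ a.act = x)
  (hSΨ : ∀ (T : Over S) (g : T ⟶ G) (x : T ⟶ X),
    (∃ q : T ⟶ SΨ, q ≫ σ = lift g x) ↔ ((∃ y : T ⟶ Ψ, y ≫ ψ = g) ∧ lift g x ≫ a.act = x))

include hψ ho hΦ hhom hXh hSΨ in
lemma locTriv_Φ [Mono σ] :
    NonAbH1.IsLocallyTrivialFor Scheme.fppfPrecoverage (Over.mk Φ.left : Over SΨ.left) := by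
  obtain ⟨-, sq, R, hR, hsec⟩ := hhom
  have hσdec : σ = lift (σ ≫ fst G X) (σ ≫ snd G X) := by
    rw [← comp_lift, lift_fst_snd, Category.comp_id]
  obtain ⟨⟨y₀, hy₀⟩, hfix₀⟩ := (hSΨ SΨ (σ ≫ fst G X) (σ ≫ snd G X)).1
    ⟨𝟙 SΨ, by rw [Category.id_comp]; exact hσdec⟩
  refine ⟨R.pullbackArrows y₀.left, Precoverage.pullbackArrows_mem y₀.left hR, ?_⟩
  rintro W' f' ⟨W, f, hf⟩
  obtain ⟨s, hs⟩ := hsec f hf
  have hs' : s ≫ (aΨ.orbitMap o).left = f := hs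
  let T' : Over S := Over.mk (pullback.snd f y₀.left ≫ SΨ.hom)
  let q : T' ⟶ SΨ := Over.homMk (pullback.snd f y₀.left) rfl
  have hγ0 : (pullback.fst f y₀.left ≫ s) ≫ G.hom = pullback.snd f y₀.left ≫ SΨ.hom := by
    rw [← Over.w (aΨ.orbitMap o), Category.assoc, reassoc_of% hs', pullback.condition_assoc,
      Over.w y₀]
  let γ : T' ⟶ G := Over.homMk (pullback.fst f y₀.left ≫ s) hγ0
  have hγπ : γ ≫ aΨ.orbitMap o = q ≫ y₀ := by
    ext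
    simp only [Over.comp_left, Over.homMk_left, γ, q, Category.assoc]
    rw [hs', pullback.condition]
  have hqσ : q ≫ σ = lift (q ≫ σ ≫ fst G X) (q ≫ σ ≫ snd G X) := by
    conv_lhs => rw [hσdec]
    rw [comp_lift]
  have hg : q ≫ σ ≫ fst G X = γ * (toUnit T' ≫ h) * γ⁻¹ := by
    rw [← hy₀, ← Category.assoc, ← hγπ, P_π h ψ aΨ o hψ ho]
  have hfix : pt a (q ≫ σ ≫ fst G X) (q ≫ σ ≫ snd G X) = q ≫ σ ≫ snd G X := by
    have := congrArg (fun m => q ≫ m) hfix₀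
    beta_reduce at this
    rw [← Category.assoc, comp_lift] at this
    exact this
  have hx' : lift (toUnit T' ≫ h) (pt a γ⁻¹ (q ≫ σ ≫ snd G X)) ≫ a.act
      = pt a γ⁻¹ (q ≫ σ ≫ snd G X) := by
    show pt a (toUnit T' ≫ h) (pt a γ⁻¹ (q ≫ σ ≫ snd G X)) = pt a γ⁻¹ (q ≫ σ ≫ snd G X)
    rw [← mul_pt]
    have h4 : (toUnit T' ≫ h) * γ⁻¹ = γ⁻¹ * (q ≫ σ ≫ fst G X) := by rw [hg]; group
    rw [h4, mul_pt, hfix]
  obtain ⟨y, hy⟩ := (hXh T' (pt a γ⁻¹ (q ≫ σ ≫ snd G X))).2 hx'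
  refine ⟨(lift γ y).left, ?_⟩
  have hτ : lift γ y ≫ Φ = q := by
    rw [← cancel_mono σ, Category.assoc, P_Φ a h incl σ Φ hΦ, hy, hqσ, ← hg]
    congr 1
    rw [← mul_pt, mul_inv_cancel, one_pt]
  have := congrArg (fun m => m.left) hτ
  simpa [q] using this

include hψ ho hincl hσ hΦ hhom hXh hSΨ in
theorem main [Mono ψ] [Mono incl] [Mono σ] :
    ChGrp.IsBalProd Scheme.fppfPrecoverage i aXh aS Φ :=
  ⟨equivariant_Φ a h incl σ aS Φ hσ hΦ, isPullback_Φ a h i ψ aΨ o incl aXh σ Φ hψ ho hincl hΦ hhom,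
    locTriv_Φ a h i ψ aΨ o incl σ Φ hψ ho hΦ hhom hXh hSΨ⟩

end pts

end Groth.Agent.Lib.Helper28.StabPart
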